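import Cfsg.Agent.Lib.Flavell.KL.Linkage

/-!
Owner: helper26 (S1930). An operator of degree one centralised by the group of its root is zero; hence the
group of a root fixes only one class in the component of that root.
-/

set_option autoImplicit false
set_option linter.unusedSectionVars false

namespace CfsgLib.Flavell.KL

open Cfsg CfsgLib.QuadPair CfsgLib.PLocal.ZJCoprime Subgroup Matrix

variable {p : ℕ} [Fact p.Prime] {V : Type} [AddCommGroup V] [Module (ZMod p) V]

local notation "GLV" => LinearMap.GeneralLinearGroup (ZMod p) V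
local notation "EV" => Module.End (ZMod p) V

variable {G : Subgroup (LinearMap.GeneralLinearGroup (ZMod p) V)} {d : ℕ} {s t q : Module.End (ZMod p) V}

/-- A square zero operator of `G` annihilated inside every root triple. -/
def SW (G : Subgroup GLV) (d : ℕ) (y : EV) : Prop :=
  y * y = 0 ∧ Fam G y ∧ ∀ w, Root G d w → w * y * w = 0

theorem SW.conj {y : EV} (hy : SW G d y) {g : GLV} (hg : g ∈ G) : SW G d (conjOp g y) := by
  refine ⟨conjOp_sq hy.1, hy.2.1.conj hg, fun w hw => ?_⟩
  have h := congrArg (conjOp g) (hy.2.2 _ (hw.conj (G.inv_mem hg)))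
  rwa [conjOp_mul, conjOp_mul, conjOp_conjOp, mul_inv_cancel, conjOp_id, conjOp_zero] at h

variable [FiniteDimensional (ZMod p) V] (hG : Geo G d)
include hG

theorem Geo.eq_zero_of_tut {u : EV} (huu : u * u = 0) (huF : Fam G u) (hr : rk u ≤ d)
    (h : ∀ w, Root G d w → w * u * w = 0) : u = 0 := by
  by_contra h0
  have hur : Root G d u := ⟨huu, huF, le_antisymm hr (hG.minRank.min u huu huF h0)⟩
  obtain ⟨q, hq⟩ := hG.opp u hur
  exact hq.right.ne_zero hG.minRank (hq.qsq ▸ h q hq.right)

/-- An operator annihilated inside every root triple commutes with every root. -/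
theorem Geo.sw_comm {x : EV} (hx : SW G d x) (hs : Root G d s) : x * s = s * x := by
  have h2 := two_ne (p := p) hG.hp5
  obtain ⟨hxx, hxF, key⟩ := id hx
  have hss := hs.sq
  have hsxs := key s hs
  set a := x * s - s * x with ha
  set b := x * s * x with hb
  obtain ⟨g, hg, hgv⟩ := hxF 1
  obtain ⟨g', hg', hgv'⟩ := hxF (-1)
  obtain ⟨h, hh, hhv⟩ := hs.fam 1
  have e2 : a * s = 0 := by rw [ha]; linear_combination (norm := noncomm_ring) x * hss - hsxs
  have e4 : b * s = 0 := by rw [hb]; linear_combination (norm := noncomm_ring) x * hsxs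
  have e5 : a * a = 0 := by
    rw [ha]
    linear_combination (norm := noncomm_ring) x * hsxs + hsxs * x - x * hss * x - s * hxx * s
  have e6 : a * b = 0 := by
    rw [ha, hb]; linear_combination (norm := noncomm_ring) x * hsxs * x - s * hxx * s * x
  have e7 : b * a = 0 := by
    rw [ha, hb]; linear_combination (norm := noncomm_ring) x * s * hxx * s - x * hsxs * x
  have e8 : b * b = 0 := by
    rw [hb]; linear_combination (norm := noncomm_ring) x * s * hxx * s * x
  have c1 : conjOp g s = s + (a - b) := by
    rw [conjOp_one_add hxx hgv s, one_smul, mul_one, one_smul, ha, hb]; abel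
  have c2 : conjOp g' s = s + (-a - b) := by
    rw [conjOp_one_add hxx hgv' s, neg_mul_neg, mul_one, one_smul, neg_one_smul, ha, hb]; abel
  have hD1 : Fam G (a - b) := by
    have := (hs.conj hg).fam.sub hs.fam (by rw [c1, add_mul, hss, sub_mul, e2, e4]; simp)
    rwa [c1, add_sub_cancel_left] at this
  have hD2 : Fam G (-a - b) := by
    have := (hs.conj hg').fam.sub hs.fam (by rw [c2, add_mul, hss, sub_mul, neg_mul, e2, e4]; simp)
    rwa [c2, add_sub_cancel_left] at this
  have hprod : (a - b) * (-a - b) = 0 := by
    linear_combination (norm := noncomm_ring) e7 - e6 - e5 + e8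
  have hbF : Fam G b := by
    refine Fam.of_smul (a := -2) (neg_ne_zero.2 h2) ?_
    convert hD1.add hD2 hprod using 1
    rw [neg_smul, two_smul]; abel
  have haF : Fam G a := by
    refine Fam.of_smul (a := 2) h2 ?_
    convert hD1.sub hD2 hprod using 1
    rw [two_smul]; abel
  have c3 : conjOp h x = x - a := by
    rw [conjOp_one_add hss hhv x, one_smul, mul_one, one_smul, hsxs, sub_zero, ha]; abel
  have c4 : conjOp g (conjOp h x) = x - a + (b + b) := by
    rw [c3, conjOp_one_add hxx hgv, one_smul, mul_one, one_smul]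
    rw [ha, hb]
    linear_combination (norm := noncomm_ring) -(hxx * s) - s * hxx - hxx * x + hxx * s * x - x * s * hxx
  have hta : ∀ t, Root G d t → t * a * t = 0 := fun t ht => by
    have h' := (hx.conj hh).2.2 t ht
    rwa [c3, mul_sub, sub_mul, key t ht, zero_sub, neg_eq_zero] at h'
  have htb : ∀ t, Root G d t → t * b * t = 0 := fun t ht => by
    have h' := ((hx.conj hh).conj hg).2.2 t ht
    rw [c4] at h'
    simp only [mul_add, add_mul, mul_sub, sub_mul, key t ht, hta t ht, sub_zero, zero_add] at h'
    have h3 : (2 : ZMod p) • (t * b * t) = 0 := by rw [two_smul]; exact h'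
    exact (smul_eq_zero.1 h3).resolve_left h2
  have hb0 : b = 0 := hG.eq_zero_of_tut e8 hbF
    (((rk_mul_le_left (x * s) x).trans (rk_mul_le_right x s)).trans hs.rank.le) htb
  have hra : rk a ≤ d := by
    have h1 : rk a ≤ rk (x * s) + rk (s * x) := by
      refine le_trans (Submodule.finrank_mono (t := LinearMap.range (x * s) ⊔ LinearMap.range (s * x)) ?_)
        (Submodule.finrank_add_le_finrank_add_finrank _ _)
      rintro m ⟨v, rfl⟩
      rw [ha, LinearMap.sub_apply]
      exact Submodule.sub_mem _ (Submodule.mem_sup_left ⟨v, rfl⟩) (Submodule.mem_sup_right ⟨v, rfl⟩)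
    have h3 := rk_mul_add x s
    have h4 : rk (s * x) ≤ Module.finrank (ZMod p) ↥(LinearMap.range s ⊓ LinearMap.ker x) :=
      Submodule.finrank_mono (le_inf (range_mul_le s x)
        (mul_eq_zero_iff.1 (by rw [← mul_assoc]; exact hb0)))
    rw [hs.rank] at h3
    omega
  exact sub_eq_zero.1 (hG.eq_zero_of_tut e5 haF hra hta)

/-- An operator of degree one centralised by `uGrp` is zero. -/
theorem Geo.eq_zero_of_central [Finite GLV] (ho : Opp G d s q) (htt : t * t = 0) (hF : Fam G t)
    (hu : t ∈ uOps s) (hone : one1 s q t = t) (hc : ∀ z ∈ uGrp G ho.left.sq, conjOp z t = t) : t = 0 := by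
  have h2 := two_ne (p := p) hG.hp5
  have hp := hG.pair ho
  have htU : expU t ∈ uGrp G ho.left.sq := expU_mem_uGrp htt hF hu
  have hqtq : q * t * q = 0 := by
    have h0 : two2 s q t = 0 := by
      rw [← hone]
      simp only [two2, one1, mul_add, add_mul, ← mul_assoc]
      rw [show s * q * ff s q = 0 from e_f hp]
      simp only [zero_mul, zero_add, mul_assoc]
      rw [show ff s q * (q * s) = 0 from f_r hp]
      simp only [mul_zero]
    calc q * t * q = q * (two2 s q t) * q := by
          rw [show q * two2 s q t * q = q * s * q * t * (q * s * q) by simp only [two2, mul_assoc], hp.qsq]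
      _ = 0 := by rw [h0, mul_zero, zero_mul]
  have hts : t * s = s * t := by rw [hu.1, hu.2.1]
  have hSW : SW G d t := ⟨htt, hF, fun w hw => by
    by_cases hl : Linked G d s w
    swap
    · have h := congrArg (fun g : GLV => (g : EV)) (hG.comm_uGrp_of_not_linked ho hw hl htU)
      simp only [Units.val_mul, expU_val hw.sq, expU_val htt] at h
      have hwt : w * t = t * w := by linear_combination (norm := noncomm_ring) h
      rw [hwt, mul_assoc, hw.sq, mul_zero]
    by_cases hn : IsNilpotent (w * s)
    swap
    · obtain ⟨q1, ho1, hsame, -⟩ := hG.exists_exact ho.left hw hn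
      obtain ⟨z, hz, hzq⟩ := exists_move hG.hp5 hp (hG.pair ho1)
      have h1 : q1 * t * q1 = 0 := by
        rw [← hzq]
        nth_rewrite 1 [← hc z hz]
        rw [← conjOp_mul, ← conjOp_mul, hqtq, conjOp_zero]
      rw [mul_eq_zero_iff]
      intro v hv
      rw [← hsame.1] at hv
      have := mul_eq_zero_iff.1 h1 hv
      rw [LinearMap.mem_ker, Module.End.mul_apply] at this ⊢
      exact LinearMap.mem_ker.1 (hsame.2 ▸ LinearMap.mem_ker.2 this)
    refine tst_quad hG.minRank h2 htt hF hw ?_
    by_cases hne : s * w - w * s = 0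
    · rw [sub_eq_zero] at hne
      have hst : expU w ∈ stab G s := by
        refine ⟨expU_mem hw.fam hw.sq, ?_⟩
        have : conjOp (expU w) s = s := conjOp_eq_self.2 (by
          rw [expU_val hw.sq, add_mul, mul_add, one_mul, mul_one, hne])
        rw [this]; exact .refl s
      have hpg := isPGroup_sup_zpowers (uGrp_isPGroup (G := G) hG.hp5 (hss := ho.left.sq))
        (stab_le_normalizer_uGrp hst) (expU_pow_p hw.sq)
      have := isNilpotent_op_mul hpg (mem_sup_right (mem_zpowers (expU w))) (mem_sup_left htU)
      rwa [op_expU hw.sq, op_expU htt] at this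
    obtain ⟨h1, h3, hFx⟩ := hG.unip' ho.left hw hn
    have hP := commPair hG.minRank h2 ho.left hw hn hne
    set x := s * w - w * s with hxdef
    have hxu : x ∈ uOps s := by
      refine ⟨?_, ?_, fun m hm => ?_⟩
      · rw [hxdef, mul_sub, ← mul_assoc, ho.left.sq, zero_mul, ← mul_assoc, h3, sub_zero]
      · rw [hxdef, sub_mul, h3, mul_assoc w, ho.left.sq, mul_zero, sub_zero]
      · exact ⟨w m, by simp [hxdef, hm]⟩
    have hzx : expU x ∈ uGrp G ho.left.sq := expU_mem_uGrp hP.root.sq hP.root.fam hxu
    have htx : t * x = x * t := by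
      have := conjOp_eq_self.1 (hc _ hzx)
      rw [expU_val hP.root.sq, add_mul, mul_add, one_mul, mul_one, add_right_inj] at this
      exact this.symm
    have hst' : s * t = 0 := hu.1
    have hts' : t * s = 0 := hu.2.1
    have htws : t * w * s = -(s * w * t) := by
      have h := htx
      rw [hxdef] at h
      linear_combination (norm := noncomm_ring) hts' * w + w * hst' - h
    set z := t * w + w * t with hz
    have hxw : x * w = 0 := hP.t_mem.1
    have hwx : w * x = 0 := hP.t_mem.2.1
    have hxz : x * z = 0 := by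
      rw [hz, mul_add, ← mul_assoc, ← mul_assoc, hxw, zero_mul, add_zero, ← htx, mul_assoc, hxw, mul_zero]
    have hzx' : z * x = 0 := by
      rw [hz, add_mul, mul_assoc, hwx, mul_zero, zero_add, mul_assoc, htx, ← mul_assoc, hwx, zero_mul]
    have hzzz : z * z * z * t = 0 := by
      refine LinearMap.ext fun v => ?_
      set y := z (t v) with hy
      have hy' : y ∈ LinearMap.ker (s * w) := by
        have : y ∈ LinearMap.ker x := by
          rw [LinearMap.mem_ker, hy, ← Module.End.mul_apply, hxz]; rfl
        rw [hP.ker_eq] at this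
        exact this.1
      rw [hP.ker_st] at hy'
      obtain ⟨_, ⟨a, rfl⟩, k, hk, hyk⟩ := Submodule.mem_sup.1 hy'
      have hty : t y = 0 := by
        rw [hy, ← Module.End.mul_apply, ← Module.End.mul_apply]
        have : t * z * t = 0 := by rw [hz]; linear_combination (norm := noncomm_ring) htt * w * t + t * w * htt
        rw [this]; rfl
      have hwy : w y = w (s a) := by rw [← hyk, map_add, LinearMap.mem_ker.1 hk, add_zero]
      have hzy : z y = (t * w * s) a := by
        rw [hz, LinearMap.add_apply, Module.End.mul_apply, Module.End.mul_apply, hty, map_zero, add_zero, hwy]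
        rfl
      have hz0 : z * (t * w * s) = 0 := by
        rw [htws, mul_neg, neg_eq_zero]
        have : s * w * t = x * t := by
          rw [hxdef, sub_mul, mul_assoc w, hst', mul_zero, sub_zero]
        rw [this, ← mul_assoc, hzx', zero_mul]
      show z (z (z (t v))) = 0
      rw [← hy, hzy, ← Module.End.mul_apply, hz0]; rfl
    refine ⟨5, ?_⟩
    have e4 : (t * w) ^ 4 = z * z * z * t * w := by
      rw [hz]
      simp only [pow_succ, pow_zero, one_mul, mul_add, add_mul, mul_assoc]
      simp only [← mul_assoc t t, ← mul_assoc w w, htt, hw.sq, zero_mul, mul_zero, add_zero, zero_add]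
    rw [hzzz, zero_mul] at e4
    rw [show (w * t) ^ 5 = w * ((t * w) ^ 4 * t) by
      simp only [pow_succ, pow_zero, one_mul, mul_assoc], e4, zero_mul, mul_zero]⟩
  have htq := hG.sw_comm hSW ho.right
  have he : s * q * t = 0 := by rw [mul_assoc, ← htq, ← mul_assoc, hu.1, zero_mul]
  have hr : t * (q * s) = 0 := by rw [← mul_assoc, htq, mul_assoc, hu.2.1, mul_zero]
  rw [← hone, one1, mul_assoc (ff s q), hr, mul_zero, he, zero_mul, add_zero]

end CfsgLib.Flavell.KL
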