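import Cfsg.Agent.Lib.Flavell.KL.Fixed

/-!
Owner: helper26 (S1930). A quadratic element of a normal `p`-subgroup of the stabiliser of an opposite pair
commutes with the component of the pair.
-/

set_option autoImplicit false
set_option linter.unusedSectionVars false

namespace CfsgLib.Flavell.KL

open Cfsg CfsgLib.QuadPair CfsgLib.PLocal.ZJCoprime Subgroup Matrix

variable {p : ℕ} [Fact p.Prime] {V : Type} [AddCommGroup V] [Module (ZMod p) V]

local notation "GLV" => LinearMap.GeneralLinearGroup (ZMod p) V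
local notation "EV" => Module.End (ZMod p) V

variable {G : Subgroup (LinearMap.GeneralLinearGroup (ZMod p) V)} {d : ℕ} {s t q : Module.End (ZMod p) V}

/-- The group generated by the two groups of an opposite pair. -/
def pairGrp (G : Subgroup GLV) {s q : EV} (hss : s * s = 0) (hqq : q * q = 0) : Subgroup GLV :=
  uGrp G hss ⊔ uGrp G hqq

theorem exists_fixed [FiniteDimensional (ZMod p) V] {K : Subgroup GLV} (hK : IsPGroup p K) :
    ∀ {Y : Submodule (ZMod p) V}, Y ≠ ⊥ → (∀ g ∈ K, ∀ v ∈ Y, (g : EV) v ∈ Y) →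
      ∃ v ∈ Y, v ≠ 0 ∧ ∀ g ∈ K, (g : EV) v = v := by
  intro Y
  induction Y using WellFoundedLT.induction with
  | _ Y ih =>
    intro hY0 hY
    by_cases h : aug K Y = ⊥
    · obtain ⟨v, hv, hv0⟩ := Submodule.exists_mem_ne_zero_of_ne_bot hY0
      refine ⟨v, hv, hv0, fun g hg => ?_⟩
      have := mem_aug hg hv
      rwa [h, Submodule.mem_bot, LinearMap.sub_apply, Module.End.one_apply, sub_eq_zero] at this
    · obtain ⟨v, hv, h1⟩ := ih _ (aug_lt hK hY0 hY) h (aug_stable le_normalizer hY)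
      exact ⟨v, aug_le hY hv, h1⟩

theorem apply_range {g : GLV} (hg : g ∈ stab G s) {v : V} (hv : v ∈ LinearMap.range s) :
    (g : EV) v ∈ LinearMap.range s := by
  rw [← hg.2.1, range_conjOp]; exact Submodule.mem_map_of_mem hv

theorem apply_ker {g : GLV} (hg : g ∈ stab G s) {v : V} (hv : s v = 0) : s ((g : EV) v) = 0 := by
  rw [← LinearMap.mem_ker, ← hg.2.2, ker_conjOp]; exact Submodule.mem_map_of_mem (LinearMap.mem_ker.2 hv)

theorem units_apply (a b : GLV) (v : V) : (a : EV) ((b : EV) v) = ((a * b : GLV) : EV) v := rfl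

theorem mid_of_ker {v : V} (hs : s v = 0) (hq : q v = 0) : ff s q v = v := by
  simp [ff, hs, hq]

section

variable (hp : Pair G s q)
include hp

theorem mem_range_iff {v : V} : v ∈ LinearMap.range s ↔ (s * q) v = v :=
  ⟨by rintro ⟨w, rfl⟩; exact LinearMap.congr_fun hp.sqs w, fun h => ⟨q v, h⟩⟩

theorem q_kills_uq {u : EV} (hu : u ∈ uOps q) (v : V) : (s * q) (u v) = 0 := by
  rw [Module.End.mul_apply, ← Module.End.mul_apply q u, hu.1, LinearMap.zero_apply, map_zero]

theorem apply_range_u {z : GLV} (hz : z ∈ uGrp G hp.ss) {v : V} (hv : v ∈ LinearMap.range s) :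
    (z : EV) v = v := by
  obtain ⟨w, rfl⟩ := hv
  rw [val_eq z, LinearMap.add_apply, Module.End.one_apply, add_eq_left, ← Module.End.mul_apply, hz.2.2.1]
  rfl

theorem weyl_apply_range {v : V} (hv : v ∈ LinearMap.range s) : (hp.I : EV) v = -(q v) := by
  obtain ⟨w, rfl⟩ := hv
  rw [weyl_val, LinearMap.sub_apply, LinearMap.add_apply, ← Module.End.mul_apply (ff s q), f_s hp,
    ← Module.End.mul_apply s s, hp.ss]
  simp

theorem weyl_apply_q {v : V} : (hp.I : EV) (q v) = s (q v) := by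
  rw [weyl_val, LinearMap.sub_apply, LinearMap.add_apply, ← Module.End.mul_apply (ff s q), f_q hp,
    ← Module.End.mul_apply q q, hp.qq]
  simp

theorem weyl_mem_pairGrp : hp.I ∈ pairGrp G hp.ss hp.qq := by
  have hn : (-q) * (-q) = 0 := by rw [neg_mul_neg, hp.qq]
  have e : hp.I = expU s * expU (-q) * expU s := by
    refine Units.ext ?_
    rw [Units.val_mul, Units.val_mul, expU_val hp.ss, expU_val hn, weyl_val, ff]
    linear_combination (norm := noncomm_ring) hp.sqs - hp.ss
  have hsg : s ∈ uOps s := g_le_u hp.ss ⟨le_rfl, le_rfl⟩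
  have hqg : -q ∈ uOps q := Submodule.neg_mem _ (g_le_u hp.qq ⟨le_rfl, le_rfl⟩)
  rw [e]
  refine Subgroup.mul_mem _ (Subgroup.mul_mem _ (mem_sup_left ?_) (mem_sup_right ?_)) (mem_sup_left ?_)
  · exact expU_mem_uGrp hp.ss hp.fs hsg
  · exact expU_mem_uGrp hn (Fam.neg hp.fq) hqg
  · exact expU_mem_uGrp hp.ss hp.fs hsg

theorem pairGrp_le : pairGrp G hp.ss hp.qq ≤ G := sup_le (uGrp_le _) (uGrp_le _)

end

variable [FiniteDimensional (ZMod p) V] (hG : Geo G d)
include hG

theorem Geo.weyl_conj_uGrp [Finite GLV] (ho : Opp G d s q) {z : GLV} (hz : z ∈ uGrp G ho.left.sq) :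
    (hG.pair ho).I * z * (hG.pair ho).I⁻¹ ∈ uGrp G ho.right.sq := by
  set hp := hG.pair ho
  have h := conj_uGrp hG (g := hp.I) (hp.rho_mem hG.hp5 _) (htt := conjOp_sq ho.left.sq) hz
  rwa [uGrp_eq_of_same (G := G) (hss := ho.right.sq) (htt := conjOp_sq ho.left.sq) (t := conjOp hp.I s) (s := q) (by
    rw [(weyl_conj hp).1, ← neg_one_smul (ZMod p) q]
    exact ⟨LinearMap.range_smul _ _ (neg_ne_zero.2 one_ne_zero),
      LinearMap.ker_smul _ _ (neg_ne_zero.2 one_ne_zero)⟩)] at h

theorem Geo.same_neg {a b : EV} (h : a = -b) : Same b a := by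
  rw [h, ← neg_one_smul (ZMod p) b]
  exact ⟨LinearMap.range_smul _ _ (neg_ne_zero.2 one_ne_zero), LinearMap.ker_smul _ _ (neg_ne_zero.2 one_ne_zero)⟩

/-- The stabiliser of the class of `s` is `uGrp` times the stabiliser of the pair. -/
theorem Geo.decomp_stab [Finite GLV] (ho : Opp G d s q) {h : GLV} (hh : h ∈ stab G s) :
    ∃ z ∈ uGrp G ho.left.sq, z⁻¹ * h ∈ stab G s ∧ z⁻¹ * h ∈ stab G q := by
  have hp := hG.pair ho
  have hr := ho.right.conj hh.1
  have hn : ¬ IsNilpotent (conjOp h q * s) := fun e => ho.nonnil hG.minRank (by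
    have e' := hG.nil_of_same ho.left hr (ho.left.conj hh.1) hr hh.2 (.refl _) e
    rw [← conjOp_mul] at e'
    have := conjOp_nilpotent h⁻¹ e'
    rwa [conjOp_conjOp, inv_mul_cancel, conjOp_id] at this)
  obtain ⟨q1, ho1, hs1, -⟩ := hG.exists_exact ho.left hr hn
  obtain ⟨z, hz, hzq⟩ := exists_move hG.hp5 hp (hG.pair ho1)
  have hzi := (uGrp G hp.ss).inv_mem hz
  refine ⟨z, hz, mul_mem (uGrp_le_stab hzi) hh, G.mul_mem hzi.1 hh.1, ?_⟩
  have := hs1.symm.conj z⁻¹
  rwa [← hzq, conjOp_conjOp, inv_mul_cancel, conjOp_id, conjOp_conjOp] at this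

/-- Of the conjugates by the root elements of `q`, two are opposite to `s`. -/
theorem Geo.two_good (ho : Opp G d s q) {g : GLV} (hg : g ∈ uGrp G ho.right.sq) :
    ∃ a b : ZMod p, a ≠ b ∧ ¬ IsNilpotent (conjOp (expU (a • q) * g) s * s) ∧
      ¬ IsNilpotent (conjOp (expU (b • q) * g) s * s) := by
  have hp := hG.pair ho
  set T := conjOp g s with hT
  have hqTq : q * T * q = q := by
    rw [hT, conjOp, uGrp_inv_val hg, val_eq g]
    linear_combination (norm := noncomm_ring) hp.qsq + hg.2.1 * s * (1 - op g + op g * op g) * q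
      - q * s * hg.2.2.1 + q * s * op g * hg.2.2.1
  have hexp : ∀ a : ZMod p, s * conjOp (expU (a • q) * g) s * s =
      s * T * s + a • (s * (q * T - T * q) * s) - (a * a) • s := by
    intro a
    have haq : (a • q) * (a • q) = 0 := by rw [smul_mul_assoc, mul_smul_comm, hp.qq, smul_zero, smul_zero]
    rw [← conjOp_conjOp, ← hT, conjOp_one_add hp.qq (c := a) (by rw [expU_val haq]), hqTq]
    simp only [mul_add, add_mul, mul_sub, sub_mul, mul_smul_comm, smul_mul_assoc, hp.sqs]
  have hbad : ∀ a : ZMod p, IsNilpotent (conjOp (expU (a • q) * g) s * s) →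
      s * T * s + a • (s * (q * T - T * q) * s) - (a * a) • s = 0 := by
    intro a ha
    have haq : (a • q) * (a • q) = 0 := by rw [smul_mul_assoc, mul_smul_comm, hp.qq, smul_zero, smul_zero]
    rw [← hexp]
    exact (hG.unip' ho.left (ho.left.conj (G.mul_mem (expU_mem (hp.fq.smul a) haq) hg.1)) ha).2.1
  have triple : ∀ a b c : ZMod p, a ≠ b → a ≠ c → b ≠ c →
      IsNilpotent (conjOp (expU (a • q) * g) s * s) → IsNilpotent (conjOp (expU (b • q) * g) s * s) →
      IsNilpotent (conjOp (expU (c • q) * g) s * s) → False := by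
    intro a b c hab hac hbc ha hb hc
    have ea := hbad a ha
    have eb := hbad b hb
    have ec := hbad c hc
    set X := s * T * s
    set Y := s * (q * T - T * q) * s
    have : ((a - b) * (a - c) * (b - c)) • s = 0 := by
      linear_combination (norm := module) -((b - c) • ea) + (a - c) • eb - (a - b) • ec
    exact hp.ne ((smul_eq_zero.1 this).resolve_left
      (mul_ne_zero (mul_ne_zero (sub_ne_zero.2 hab) (sub_ne_zero.2 hac)) (sub_ne_zero.2 hbc)))
  have h2 := two_ne (p := p) hG.hp5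
  have h3 := three_ne (p := p) hG.hp5
  have d01 : (0 : ZMod p) ≠ 1 := zero_ne_one
  have d02 : (0 : ZMod p) ≠ 2 := Ne.symm h2
  have d12 : (1 : ZMod p) ≠ 2 := fun e => one_ne_zero (show (1 : ZMod p) = 0 by linear_combination -e)
  have d03 : (0 : ZMod p) ≠ 3 := Ne.symm h3
  have d13 : (1 : ZMod p) ≠ 3 := fun e => h2 (by linear_combination -e)
  have d23 : (2 : ZMod p) ≠ 3 := fun e => one_ne_zero (show (1 : ZMod p) = 0 by linear_combination -e)
  by_contra hcon
  push Not at hcon
  by_cases b0 : IsNilpotent (conjOp (expU ((0 : ZMod p) • q) * g) s * s)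
  · by_cases b1 : IsNilpotent (conjOp (expU ((1 : ZMod p) • q) * g) s * s)
    · by_cases b2 : IsNilpotent (conjOp (expU ((2 : ZMod p) • q) * g) s * s)
      · exact triple 0 1 2 d01 d02 d12 b0 b1 b2
      · exact triple 0 1 3 d01 d03 d13 b0 b1 (hcon 2 3 d23 b2)
    · exact triple 0 2 3 d02 d03 d23 b0 (hcon 1 2 d12 b1) (hcon 1 3 d13 b1)
  · exact triple 1 2 3 d12 d13 d23 (hcon 0 1 d01 b0) (hcon 0 2 d02 b0) (hcon 0 3 d03 b0)

/-- The core of the argument, for an element fixing the pair itself. -/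
theorem Geo.core_pair [Finite GLV] (ho : Opp G d s q) {x : GLV} (hxG : x ∈ G) (hx2 : op x * op x = 0)
    (hxs : conjOp x s = s) (hxq : conjOp x q = q) {N0 : Subgroup GLV} (hN : IsPGroup p N0)
    (hxN : x ∈ N0) (hNs : N0 ≤ stab G s)
    (hLN : ∀ l ∈ pairGrp G ho.left.sq ho.right.sq, l ∈ stab G s → l ∈ stab G q →
      l ∈ normalizer (N0 : Set GLV)) :
    ∀ z ∈ uGrp G ho.left.sq, x * z = z * x := by
  have hp5 := hG.hp5
  have h2 := two_ne (p := p) hp5
  have hp := hG.pair ho
  set J := pairGrp G ho.left.sq ho.right.sq with hJdef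
  have hnJ : hp.I ∈ J := weyl_mem_pairGrp hp
  have hJG : J ≤ G := pairGrp_le hp
  set ξ := op x with hξ
  have hx1 : (x : EV) = 1 + ξ := val_eq x
  have hxξ : ∀ v : V, (x : EV) v = v + ξ v := fun v => by
    rw [hx1, LinearMap.add_apply, Module.End.one_apply]
  -- the fixed part of the image of `s`
  let W0 : Submodule (ZMod p) V :=
    LinearMap.range s ⊓ ⨅ g : N0, LinearMap.ker (op (g : GLV))
  have mW0 : ∀ {v : V}, v ∈ W0 ↔ v ∈ LinearMap.range s ∧ ∀ g ∈ N0, (g : EV) v = v := fun {v} => by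
    simp [W0, sub_eq_zero]
  have hW0ne : ∃ w ∈ W0, w ≠ 0 := by
    obtain ⟨v, hv, hv0, hfix⟩ := exists_fixed hN
      (fun e => hp.ne (LinearMap.range_eq_bot.1 e)) (fun g hg v hv => apply_range (hNs hg) hv)
    exact ⟨v, mW0.2 ⟨hv, hfix⟩, hv0⟩
  have hW0L : ∀ l ∈ J, l ∈ stab G s → l ∈ stab G q → ∀ v ∈ W0, (l : EV) v ∈ W0 := by
    intro l hlJ hls hlq v hv
    obtain ⟨h1, h2⟩ := mW0.1 hv
    refine mW0.2 ⟨apply_range hls h1, fun g hg => ?_⟩
    have := h2 _ ((mem_normalizer_iff''.1 (hLN l hlJ hls hlq) g).1 hg)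
    rw [Units.val_mul, Units.val_mul, Module.End.mul_apply, Module.End.mul_apply] at this
    have e := congrArg (l : EV) this
    rwa [apply_inv_apply] at e
  have hW0st : ∀ Y ∈ J, Y ∈ stab G s → ∀ v ∈ W0, (Y : EV) v ∈ W0 := by
    intro Y hYJ hYs v hv
    obtain ⟨z, hz, hls, hlq⟩ := hG.decomp_stab ho hYs
    have hl := hW0L _ (J.mul_mem (J.inv_mem (mem_sup_left hz)) hYJ) hls hlq v hv
    have e : (Y : EV) v = (z : EV) (((z⁻¹ * Y : GLV) : EV) v) := by
      rw [← Module.End.mul_apply, ← Units.val_mul, mul_inv_cancel_left]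
    rw [e, apply_range_u hp hz (mW0.1 hl).1]
    exact hl
  -- the subspace `W`
  let W : Submodule (ZMod p) V := ⨆ g ∈ uGrp G ho.right.sq, W0.map (g : EV)
  have hgW : ∀ g ∈ uGrp G ho.right.sq, ∀ w ∈ W0, (g : EV) w ∈ W := fun g hg w hw =>
    Submodule.mem_iSup_of_mem g (Submodule.mem_iSup_of_mem hg ⟨w, hw, rfl⟩)
  have hWgen : ∀ h : GLV, (∀ g ∈ uGrp G ho.right.sq, ∀ w ∈ W0, (h : EV) ((g : EV) w) ∈ W) → h ∈ stabSub W := by
    intro h hh
    have hle : W.map (h : EV) ≤ W := by
      rw [Submodule.map_le_iff_le_comap]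
      refine iSup₂_le fun g hg => ?_
      rintro _ ⟨w, hw, rfl⟩
      exact hh g hg w hw
    have heq : W.map (h : EV) = W := Submodule.eq_of_le_of_finrank_eq hle
      (Submodule.equivMapOfInjective (h : EV) (fun a b e => by
        simpa only [inv_apply_apply] using congrArg ((h⁻¹ : GLV) : EV) e) W).finrank_eq.symm
    refine ⟨fun v hv => hle (Submodule.mem_map_of_mem hv), fun v hv => ?_⟩
    rw [← heq] at hv
    obtain ⟨v', hv', rfl⟩ := hv
    rwa [inv_apply_apply]
  have hUq : ∀ g ∈ uGrp G ho.right.sq, g ∈ stabSub W := fun g hg => hWgen g fun g' hg' w hw => by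
    rw [← Module.End.mul_apply, ← Units.val_mul]
    exact hgW _ (Subgroup.mul_mem _ hg hg') w hw
  have hcW : ∀ h : GLV, h ∈ stab G q → (∀ w ∈ W0, (h : EV) w ∈ W0) → h ∈ stabSub W := fun h hh hW0 =>
    hWgen h fun g hg w hw => by
      have hg' : h * g * h⁻¹ ∈ uGrp G ho.right.sq := (mem_normalizer_iff.1 (stab_le_normalizer_uGrp hh) g).1 hg
      have := hgW _ hg' _ (hW0 w hw)
      rwa [← Module.End.mul_apply, ← Units.val_mul, inv_mul_cancel_right, Units.val_mul, Module.End.mul_apply]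
        at this
  have hxW : x ∈ stabSub W := hcW x ⟨hxG, by rw [hxq]; exact .refl q⟩ fun w hw => by
    rw [(mW0.1 hw).2 x hxN]; exact hw
  have hLW : ∀ l ∈ J, l ∈ stab G s → l ∈ stab G q → l ∈ stabSub W := fun l hlJ hls hlq =>
    hcW l hlq (hW0L l hlJ hls hlq)
  have hDW : tor hp ∈ stabSub W := hcW _ (tor_stab hp5 hp).2 fun w hw => by
    have hwR := (mW0.1 hw).1
    obtain ⟨a, rfl⟩ := hwR
    have e : (tor hp : EV) (s a) = (2 : ZMod p) • s a := by
      rw [← Module.End.mul_apply, tor_val hp5, add_mul, add_mul, smul_mul_assoc, smul_mul_assoc, f_s hp,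
        hp.sqs, r_s hp, smul_zero, add_zero, zero_add]
      rfl
    rw [e]; exact W0.smul_mem _ hw
  have hnn : ∀ w ∈ LinearMap.range s, (hp.I : EV) ((hp.I : EV) w) = -w := fun w hw => by
    rw [weyl_apply_range hp hw, map_neg, weyl_apply_q hp, ← Module.End.mul_apply, (mem_range_iff hp).1 hw]
  have hgood : ∀ g ∈ uGrp G ho.right.sq, ¬ IsNilpotent (conjOp g s * s) → ∀ w ∈ W0,
      (hp.I : EV) ((g : EV) w) ∈ W := by
    intro g hg hn w hw
    obtain ⟨t1, ho1, hs1, -⟩ := hG.exists_exact ho.left (ho.left.conj hg.1) hn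
    obtain ⟨z, hz, hzq⟩ := exists_move hp5 hp (hG.pair ho1)
    set Y := (z * hp.I)⁻¹ * g with hYdef
    have hYJ : Y ∈ J := J.mul_mem (J.inv_mem (J.mul_mem (mem_sup_left hz) hnJ)) (mem_sup_right hg)
    have hYs : Y ∈ stab G s := by
      refine ⟨hJG hYJ, ?_⟩
      rw [hYdef, ← conjOp_conjOp]
      have e : conjOp (z * hp.I)⁻¹ t1 = -s := by
        have e1 : conjOp (z * hp.I) (-s) = t1 := by
          rw [← neg_one_smul (ZMod p) s, conjOp_smul, ← conjOp_conjOp, (weyl_conj hp).1,
            ← neg_one_smul (ZMod p) q, conjOp_smul, hzq, smul_smul, neg_mul_neg, one_mul, one_smul]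
        rw [← e1, conjOp_conjOp, inv_mul_cancel, conjOp_id]
      have := (hs1.conj (z * hp.I)⁻¹).symm
      rw [e] at this
      exact (hG.same_neg rfl).trans this
    have hw' := hW0st Y hYJ hYs w hw
    have e : (hp.I : EV) ((g : EV) w) =
        -(((hp.I * z * hp.I⁻¹ : GLV) : EV) ((Y : EV) w)) := by
      rw [← map_neg, ← hnn _ (mW0.1 hw').1]
      simp only [← Module.End.mul_apply, ← Units.val_mul]
      congr 2
      rw [hYdef]; group
    rw [e]
    exact W.neg_mem (hgW _ (hG.weyl_conj_uGrp ho hz) _ hw')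
  have hnW : hp.I ∈ stabSub W := by
    refine hWgen _ fun g hg w hw => ?_
    obtain ⟨a, b, hab, ha, hb⟩ := hG.two_good ho hg
    have haq : ∀ c : ZMod p, (c • q) * (c • q) = 0 := fun c => by
      rw [smul_mul_assoc, mul_smul_comm, hp.qq, smul_zero, smul_zero]
    have hm : ∀ c : ZMod p, expU (c • q) * g ∈ uGrp G ho.right.sq := fun c =>
      Subgroup.mul_mem _ (expU_mem_uGrp (haq c) (hp.fq.smul c)
        (Submodule.smul_mem _ c (g_le_u hp.qq ⟨le_rfl, le_rfl⟩))) hg
    have key : ∀ c : ZMod p, ¬ IsNilpotent (conjOp (expU (c • q) * g) s * s) →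
        (hp.I : EV) ((g : EV) w) + c • (hp.I : EV) (q ((g : EV) w)) ∈ W := by
      intro c hc
      have := hgood _ (hm c) hc w hw
      rwa [Units.val_mul, Module.End.mul_apply, expU_val (haq c), LinearMap.add_apply, Module.End.one_apply,
        LinearMap.smul_apply, map_add, map_smul] at this
    have hd : (hp.I : EV) (q ((g : EV) w)) ∈ W := by
      have := W.smul_mem (a - b)⁻¹ (W.sub_mem (key a ha) (key b hb))
      rwa [add_sub_add_left_eq_sub, ← sub_smul, smul_smul, inv_mul_cancel₀ (sub_ne_zero.2 hab), one_smul]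
        at this
    simpa using W.sub_mem (key a ha) (W.smul_mem a hd)
  have hUs : ∀ z ∈ uGrp G ho.left.sq, z ∈ stabSub W := by
    intro z hz
    have h := (stabSub W).mul_mem ((stabSub W).mul_mem ((stabSub W).inv_mem hnW)
      (hUq _ (hG.weyl_conj_uGrp ho hz))) hnW
    simpa [mul_assoc] using h
  -- `W` is graded
  have heW : ∀ v ∈ W, (s * q) v ∈ W := by
    intro v hv
    have h : ((3 : ZMod p) • (s * q)) v ∈ W := by
      rw [proj_eq hp5 hp, Module.End.mul_apply]
      have h1 : ((2 : ZMod p) • (tor hp : EV) - 1) v ∈ W := by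
        rw [LinearMap.sub_apply, LinearMap.smul_apply, Module.End.one_apply]
        exact W.sub_mem (W.smul_mem _ (hDW.1 v hv)) hv
      rw [LinearMap.sub_apply, Module.End.one_apply]
      exact W.sub_mem (hDW.1 _ h1) h1
    have := W.smul_mem (3 : ZMod p)⁻¹ h
    rwa [LinearMap.smul_apply, smul_smul, inv_mul_cancel₀ (three_ne hp5), one_smul] at this
  have hrW : ∀ v ∈ W, (q * s) v ∈ W := by
    intro v hv
    rw [inv_proj_eq hp5 hp, LinearMap.smul_apply, LinearMap.sub_apply, LinearMap.sub_apply, Module.End.one_apply]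
    exact W.smul_mem _ (W.sub_mem (heW v hv) (W.sub_mem (hDW.1 v hv) hv))
  have hfW : ∀ v ∈ W, ff s q v ∈ W := by
    intro v hv
    rw [ff, LinearMap.sub_apply, LinearMap.sub_apply, Module.End.one_apply]
    exact W.sub_mem (W.sub_mem hv (heW v hv)) (hrW v hv)
  have heW0 : ∀ v ∈ W, (s * q) v ∈ W0 := by
    suffices h : W ≤ W0.comap (s * q) from fun v hv => h hv
    refine iSup₂_le fun g hg => ?_
    rintro _ ⟨w, hw, rfl⟩
    rw [Submodule.mem_comap, val_eq g, LinearMap.add_apply, Module.End.one_apply, map_add,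
      q_kills_uq hp hg.2, add_zero, (mem_range_iff hp).1 (mW0.1 hw).1]
    exact hw
  have hWR : ∀ v ∈ W, v ∈ LinearMap.range s → ξ v = 0 := fun v hv hr => by
    have := (mW0.1 (heW0 v hv)).2 x hxN
    rwa [(mem_range_iff hp).1 hr, hxξ, add_eq_left] at this
  have hξs : ξ * s = s * ξ := by
    have h := conjOp_eq_self.1 hxs
    rwa [val_eq x, add_mul, mul_add, one_mul, mul_one, add_right_inj] at h
  have hξq : ξ * q = q * ξ := by
    have h := conjOp_eq_self.1 hxq
    rwa [val_eq x, add_mul, mul_add, one_mul, mul_one, add_right_inj] at h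
  have hξf : ξ * ff s q = ff s q * ξ :=
    (((Commute.one_right ξ).sub_right ((show Commute ξ s from hξs).mul_right hξq)).sub_right
      ((show Commute ξ q from hξq).mul_right hξs)).eq
  have hmid : ∀ v : V, s v = 0 → q v = 0 → (hp.I : EV) v = v := fun v h1 h2 => by
    rw [weyl_val, LinearMap.sub_apply, LinearMap.add_apply, mid_of_ker h1 h2, h1, h2, add_zero, sub_zero]
  -- the vectors of the lowest degree
  let M : Set V := {m | m ∈ W ∧ (q * s) m = m}
  have hMξ : ∀ m ∈ M, ξ m = 0 := by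
    rintro m ⟨hm, hrm⟩
    have hqm : q m = 0 := by rw [← hrm, ← Module.End.mul_apply, ← mul_assoc, hp.qq, zero_mul]; rfl
    have hnm : (hp.I : EV) m = s m := by
      rw [weyl_val, LinearMap.sub_apply, LinearMap.add_apply, hqm, sub_zero]
      have : ff s q m = 0 := by rw [← hrm, ← Module.End.mul_apply, f_r hp]; rfl
      rw [this, zero_add]
    have h1 : ξ (s m) = 0 := hWR _ (hnm ▸ hnW.1 m hm) ⟨m, rfl⟩
    rw [← hrm, ← Module.End.mul_apply ξ, ← mul_assoc, hξq, mul_assoc, Module.End.mul_apply,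
      Module.End.mul_apply, h1, map_zero]
  have hMmem : ∀ y ∈ W0, -(q y) ∈ M := by
    intro y hy
    refine ⟨?_, ?_⟩
    · rw [← weyl_apply_range hp (mW0.1 hy).1]
      exact hnW.1 _ (by simpa using hgW 1 (one_mem _) y hy)
    · rw [map_neg, ← Module.End.mul_apply (q * s) q, hp.qsq]
  have hMne : ∃ m ∈ M, m ≠ 0 := by
    obtain ⟨w, hw, hw0⟩ := hW0ne
    refine ⟨_, hMmem w hw, fun e => hw0 ?_⟩
    rw [← (mem_range_iff hp).1 (mW0.1 hw).1, Module.End.mul_apply, neg_eq_zero.1 e, map_zero]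
  have hMs : ∀ m ∈ M, m ≠ 0 → s m ≠ 0 := fun m hm h0 e => h0 (by
    rw [← hm.2, Module.End.mul_apply, e, map_zero])
  -- the commutators of degree two
  set U := uGrp G ho.left.sq with hUdef
  have hxU : ∀ z ∈ U, x * z * x⁻¹ ∈ U := fun z hz =>
    (mem_normalizer_iff.1 (stab_le_normalizer_uGrp (hss := ho.left.sq) ⟨hxG, by rw [hxs]; exact .refl s⟩) z).1 hz
  have hLone : ∀ z : GLV, conjOp x (one1 s q (op z)) = one1 s q (op (x * z * x⁻¹)) := fun z => by
    rw [conj_one1, hxs, hxq, op_conj_val]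
  have hbr : ∀ a ∈ U, ∀ b ∈ U, one1 s q (op a) * one1 s q (op b) - one1 s q (op b) * one1 s q (op a) ∈ Cls G s := by
    intro a ha b hb
    have hab := U.mul_mem ha hb
    have hba := U.inv_mem (U.mul_mem hb ha)
    set y := a * b * (b * a)⁻¹ with hy
    have hyU : y ∈ U := U.mul_mem hab hba
    obtain ⟨i1, i2⟩ := op_inv_degrees hp (U.mul_mem hb ha)
    have y1 : one1 s q (op y) = 0 := by
      rw [hy, op_mul_one1 hp hab hba, i1, op_mul_one1 hp ha hb, op_mul_one1 hp hb ha]; abel
    have y2 : two2 s q (op y) =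
        one1 s q (op a) * one1 s q (op b) - one1 s q (op b) * one1 s q (op a) := by
      rw [hy, op_mul_two2 hp hab hba, i2, i1, op_mul_two2 hp ha hb, op_mul_two2 hp hb ha,
        op_mul_one1 hp ha hb, op_mul_one1 hp hb ha]
      simp only [mul_add, add_mul, mul_neg]
      abel
    have hop : op y = two2 s q (op y) := by
      conv_lhs => rw [decomp hp hyU.2, y1, zero_add]
    have hg : op y ∈ gOps s := hop ▸ two2_gOps hp
    have hsq : op y * op y = 0 := u_mul_g (g_le_u hp.ss hg) hg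
    rw [← y2, ← hop]
    exact ⟨hsq, fam_of_mem hyU.1 hsq, hg.1, hg.2⟩
  have hzero : ∀ z ∈ U, one1 s q (op z) * conjOp x (one1 s q (op z)) -
      conjOp x (one1 s q (op z)) * one1 s q (op z) = 0 := by
    intro z0 hz0
    by_contra hE0
    obtain ⟨a, -, -, ha, -⟩ := hG.two_good ho.symm hz0
    have has : (a • s) * (a • s) = 0 := by rw [smul_mul_assoc, mul_smul_comm, hp.ss, smul_zero, smul_zero]
    have hasu : a • s ∈ gOps s := Submodule.smul_mem _ a ⟨le_rfl, le_rfl⟩
    have hea : expU (a • s) ∈ U := expU_mem_uGrp has (hp.fs.smul a) (g_le_u hp.ss hasu)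
    set z := expU (a • s) * z0 with hzdef
    have hz : z ∈ U := U.mul_mem hea hz0
    have hone : one1 s q (op z) = one1 s q (op z0) := by
      rw [hzdef, op_mul_one1 hp hea hz0, op_expU has, one1_gOps hp hasu, zero_add]
    rw [← hone] at hE0
    set u := one1 s q (op z) with hu
    have hE := hbr z hz _ (hxU z hz)
    rw [← hLone, ← hu] at hE
    set E := u * conjOp x u - conjOp x u * u with hEdef
    have hEker := (Cls.root hG.minRank ho.left hE hE0).2.2
    -- `u` moves `W`
    have hum : ∀ m ∈ M, u m = ff s q ((z : EV) m) ∧ u m ∈ W := by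
      rintro m ⟨hm, hrm⟩
      have hfm : ff s q m = 0 := by rw [← hrm, ← Module.End.mul_apply, f_r hp]; rfl
      have e : u m = ff s q ((z : EV) m) := by
        rw [val_eq z, LinearMap.add_apply, Module.End.one_apply, map_add, hfm, zero_add, hu, one1,
          LinearMap.add_apply, Module.End.mul_apply _ (q * s), hrm, Module.End.mul_apply _ (ff s q), hfm, map_zero,
          add_zero]
        rfl
      exact ⟨e, e ▸ hfW _ ((hUs z hz).1 m hm)⟩
    have huf : ∀ v ∈ W, s v = 0 → q v = 0 → u v ∈ W ∧ u v ∈ LinearMap.range s ∧ (z : EV) v = v + u v := by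
      intro v hv h1 h2
      have hrv : (q * s) v = 0 := by rw [Module.End.mul_apply, h1, map_zero]
      have hev : (s * q) v = 0 := by rw [Module.End.mul_apply, h2, map_zero]
      have e0 : op z v = u v := by
        have := LinearMap.congr_fun (decomp hp hz.2) v
        rw [LinearMap.add_apply, two2, Module.End.mul_apply _ (q * s), hrv, map_zero, add_zero] at this
        exact this
      have e1 : u v = (s * q) (op z v) := by
        rw [hu, one1, LinearMap.add_apply, Module.End.mul_apply _ (q * s), hrv, map_zero, zero_add,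
          Module.End.mul_apply _ (ff s q), mid_of_ker h1 h2]
        rfl
      have hzv : (z : EV) v = v + u v := by rw [val_eq z, LinearMap.add_apply, Module.End.one_apply, e0]
      refine ⟨?_, e1 ▸ ⟨_, rfl⟩, hzv⟩
      have := W.sub_mem ((hUs z hz).1 v hv) hv
      rwa [hzv, add_sub_cancel_left] at this
    have hmid' : ∀ v : V, ff s q v = v → s v = 0 ∧ q v = 0 := fun v h =>
      ⟨by rw [← h, ← Module.End.mul_apply, s_f hp]; rfl, by rw [← h, ← Module.End.mul_apply, q_f hp]; rfl⟩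
    have hxinv : ∀ v : V, ((x⁻¹ : GLV) : EV) v = v - ξ v := fun v => by
      have : ((x⁻¹ : GLV) : EV) = 1 - ξ := Units.inv_eq_of_mul_eq_one_right (by
        rw [hx1]; linear_combination (norm := noncomm_ring) -hx2)
      rw [this]; rfl
    have hEm : ∀ m ∈ M, E m = (2 : ZMod p) • u (ξ (u m)) := by
      intro m hm
      obtain ⟨e1, e2⟩ := hum m hm
      have hfum : ff s q (u m) = u m := by rw [e1, ← Module.End.mul_apply, f_f hp]
      obtain ⟨k1, k2⟩ := hmid' _ hfum
      obtain ⟨a1, a2, -⟩ := huf _ e2 k1 k2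
      have hξW : ξ (u m) ∈ W := by
        have := W.sub_mem (hxW.1 _ e2) e2
        rwa [hxξ, add_sub_cancel_left] at this
      have hξf' : ff s q (ξ (u m)) = ξ (u m) := by
        rw [← Module.End.mul_apply, ← hξf, Module.End.mul_apply, hfum]
      obtain ⟨l1, l2⟩ := hmid' _ hξf'
      obtain ⟨b1, b2, -⟩ := huf _ hξW l1 l2
      have f1 : conjOp x u m = u m + ξ (u m) := by
        rw [conjOp, Module.End.mul_apply, Module.End.mul_apply, hxinv, hMξ m hm, sub_zero, hxξ]
      have f2 : conjOp x u (u m) = u (u m) - u (ξ (u m)) := by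
        rw [conjOp, Module.End.mul_apply, Module.End.mul_apply, hxinv, map_sub, hxξ, map_sub,
          hWR _ a1 a2, hWR _ b1 b2, sub_zero, add_zero]
      rw [hEdef, LinearMap.sub_apply, Module.End.mul_apply, Module.End.mul_apply, f1, f2, map_add, two_smul]
      abel
    have hne : ∀ m ∈ M, m ≠ 0 → u (ξ (u m)) ≠ 0 := fun m hm h0 e => hMs m hm h0 (by
      have : E m = 0 := by rw [hEm m hm, e, smul_zero]
      exact LinearMap.mem_ker.1 (hEker ▸ LinearMap.mem_ker.2 this))
    -- a smallest subspace holding some `ξ u m`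
    obtain ⟨Y, ⟨hY1, hY2, m0, hm0, hm00, hY3⟩, hYmin⟩ := wellFounded_lt.has_min
      {Y : Submodule (ZMod p) V | (∀ g ∈ N0, ∀ v ∈ Y, (g : EV) v ∈ Y) ∧
        (∀ l ∈ J, l ∈ stab G s → l ∈ stab G q → ∀ v ∈ Y, (l : EV) v ∈ Y) ∧
        ∃ m ∈ M, m ≠ 0 ∧ ξ (u m) ∈ Y}
      ⟨⊤, fun _ _ _ _ => trivial, fun _ _ _ _ _ _ => trivial, hMne.choose, hMne.choose_spec.1,
        hMne.choose_spec.2, trivial⟩
    obtain ⟨v, hv⟩ : ∃ v, v = ξ (u m0) := ⟨_, rfl⟩
    rw [← hv] at hY3
    have hvY : v ∈ Y := hY3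
    have hY0 : Y ≠ ⊥ := fun e => hne m0 hm0 hm00 (by
      rw [e, Submodule.mem_bot] at hvY
      rw [← hv, hvY, map_zero])
    obtain ⟨e1, e2⟩ := hum m0 hm0
    have hfv : ff s q v = v := by
      rw [hv, e1, ← Module.End.mul_apply, ← Module.End.mul_apply, ← hξf, mul_assoc, f_f hp]
      rfl
    obtain ⟨hsv, hqv⟩ := hmid' _ hfv
    have hvW : v ∈ W := by
      have := W.sub_mem (hxW.1 _ e2) e2
      rwa [hxξ, add_sub_cancel_left, ← hv] at this
    obtain ⟨huvW, huvR, hzv⟩ := huf v hvW hsv hqv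
    -- the element of the stabiliser
    obtain ⟨t1, ho1, hs1, -⟩ := hG.exists_exact ho.right (ho.right.conj hz.1) (by rw [hzdef]; exact ha)
    obtain ⟨g, hg, hgs⟩ := exists_move hp5 hp.symm (hG.pair ho1)
    set X := g⁻¹ * z * hp.I with hXdef
    have hXJ : X ∈ J := J.mul_mem (J.mul_mem (J.inv_mem (mem_sup_right hg)) (mem_sup_left hz)) hnJ
    have hXs : X ∈ stab G s := by
      refine ⟨hJG hXJ, ?_⟩
      have h1 := (hs1.conj g⁻¹).symm
      rw [← hgs, conjOp_conjOp g⁻¹ g, inv_mul_cancel, conjOp_id, conjOp_conjOp] at h1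
      refine h1.trans ?_
      rw [hXdef, ← conjOp_conjOp (g⁻¹ * z), (weyl_conj hp).1, ← neg_one_smul (ZMod p) q, conjOp_smul]
      exact ⟨LinearMap.range_smul _ _ (neg_ne_zero.2 one_ne_zero),
        LinearMap.ker_smul _ _ (neg_ne_zero.2 one_ne_zero)⟩
    obtain ⟨z', hz', hls, hlq⟩ := hG.decomp_stab ho hXs
    have hlJ : z'⁻¹ * X ∈ J := J.mul_mem (J.inv_mem (mem_sup_left hz')) hXJ
    set l := z'⁻¹ * X with hldef
    have hl1 := apply_ker hls hsv
    have hl2 := apply_ker hlq hqv
    have hflv := mid_of_ker hl1 hl2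
    have hgX : (g : EV) ((X : EV) v) = v + u v := by
      rw [units_apply, show g * X = z * hp.I by rw [hXdef]; group, ← units_apply, hmid v hsv hqv, hzv]
    have hXv : (X : EV) v = (l : EV) v + u v := by
      have e3 : (X : EV) v = (z' : EV) ((l : EV) v) := by
        rw [units_apply, hldef, mul_inv_cancel_left]
      obtain ⟨c, hc⟩ := hz'.2.2.2 _ hl1
      rw [val_eq z', LinearMap.add_apply, Module.End.one_apply, ← hc] at e3
      have e4 : (s * q) ((l : EV) v) = 0 := by rw [Module.End.mul_apply, hl2, map_zero]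
      have e5 : (s * q) v = 0 := by rw [Module.End.mul_apply, hqv, map_zero]
      have := congrArg (s * q) hgX
      rw [val_eq g, LinearMap.add_apply, Module.End.one_apply, map_add, q_kills_uq hp hg.2, add_zero, e3,
        map_add, e4, zero_add, (mem_range_iff hp).1 ⟨c, rfl⟩, map_add, e5, zero_add,
        (mem_range_iff hp).1 huvR] at this
      rw [e3, this]
    have hglv : ff s q ((g : EV) ((l : EV) v)) = (l : EV) v := by
      obtain ⟨c, hc⟩ := hg.2.2.2 _ hl2
      rw [val_eq g, LinearMap.add_apply, Module.End.one_apply, map_add, ← hc, hflv,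
        ← Module.End.mul_apply (ff s q) q, f_q hp, LinearMap.zero_apply, add_zero]
    set y := ((X⁻¹ : GLV) : EV) (u v) with hy
    have hXW : X ∈ stabSub W :=
      (stabSub W).mul_mem ((stabSub W).mul_mem ((stabSub W).inv_mem (hUq g hg)) (hUs z hz)) hnW
    have hyW0 : y ∈ W0 := by
      have := heW0 y (hXW.2 _ huvW)
      rwa [(mem_range_iff hp).1 (apply_range (inv_mem hXs) huvR)] at this
    have hguv : (g : EV) (u v) = (z : EV) ((hp.I : EV) y) := by
      rw [units_apply z hp.I, show z * hp.I = g * X by rw [hXdef]; group, ← units_apply, hy, apply_inv_apply]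
    set m1 := -(q y) with hm1def
    have hny : (hp.I : EV) y = m1 := weyl_apply_range hp (mW0.1 hyW0).1
    have hm1 : m1 ∈ M := hMmem y hyW0
    have hm10 : m1 ≠ 0 := fun e => by
      have : y = 0 := by
        rw [← (mem_range_iff hp).1 (mW0.1 hyW0).1, Module.End.mul_apply,
          show q y = 0 from neg_eq_zero.1 e, map_zero]
      rw [hy] at this
      have h' := congrArg (X : EV) this
      rw [apply_inv_apply, map_zero] at h'
      exact hne m0 hm0 hm00 (hv ▸ h')
    have hum1 : u m1 = v - (l : EV) v := by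
      have e3 := congrArg (ff s q) hgX
      rw [hXv, map_add, map_add, hglv, map_add, hfv,
        show ff s q (u v) = 0 by
          obtain ⟨c, hc⟩ := huvR
          rw [← hc, ← Module.End.mul_apply, f_s hp]; rfl,
        add_zero, hguv, hny, ← (hum m1 hm1).1] at e3
      exact eq_sub_of_add_eq' e3
    have hum1Y : u m1 ∈ Y := hum1 ▸ Y.sub_mem hvY (hY2 l hlJ hls hlq v hvY)
    refine hYmin (aug N0 Y) ⟨aug_stable le_normalizer hY1, fun l hlJ hls hlq => ?_, m1, hm1, hm10,
      mem_aug hxN hum1Y⟩ (aug_lt hN hY0 hY1)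
    exact aug_stable (N := zpowers l) (zpowers_le.2 (hLN l hlJ hls hlq)) (fun g hg w hw => by
      obtain ⟨i, rfl⟩ := mem_zpowers_iff.1 hg
      have hli : l ^ i ∈ J ⊓ (stab G s ⊓ stab G q) :=
        (J ⊓ (stab G s ⊓ stab G q)).zpow_mem ⟨hlJ, hls, hlq⟩ i
      exact hY2 _ hli.1 hli.2.1 hli.2.2 w hw) l (mem_zpowers l)
  -- `x` centralises the class of `s`
  have hcls : ∀ c ∈ Cls G s, conjOp x c = c := by
    intro c hc
    by_contra hne
    have hcU : expU c ∈ U := expU_mem_uGrp hc.1 hc.2.1 (Cls.le_uOps hp.ss hc)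
    have hx1 := conjOp_sq (g := x) hc.1
    have hc' : conjOp x c ∈ Cls G s := by
      refine ⟨hx1, hc.2.1.conj hxG, ?_, ?_⟩
      · rw [range_conjOp]
        calc (LinearMap.range c).map (x : EV) ≤ (LinearMap.range s).map (x : EV) := Submodule.map_mono hc.2.2.1
          _ = LinearMap.range s := by rw [← range_conjOp, hxs]
      · rw [ker_conjOp]
        calc LinearMap.ker s = (LinearMap.ker s).map (x : EV) := by rw [← ker_conjOp, hxs]
          _ ≤ _ := Submodule.map_mono hc.2.2.2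
    have hd : conjOp x c - c ∈ Cls G s := by
      have := Cls.add hp.ss hc' (Cls.smul hc (-1 : ZMod p))
      rwa [neg_one_smul, ← sub_eq_add_neg] at this
    have hd0 : conjOp x c - c ≠ 0 := sub_ne_zero.2 hne
    obtain ⟨m, hm, hm0⟩ := hMne
    refine hMs m hm hm0 (LinearMap.mem_ker.1 ((Cls.root hG.minRank ho.left hd hd0).2.2 ▸ LinearMap.mem_ker.2 ?_))
    have hcm : c m ∈ W := by
      have := W.sub_mem ((hUs _ hcU).1 m hm.1) hm.1
      rwa [expU_val hc.1, LinearMap.add_apply, Module.End.one_apply, add_sub_cancel_left] at this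
    have hxim : ((x⁻¹ : GLV) : EV) m = m := by
      have := congrArg ((x⁻¹ : GLV) : EV) (show (x : EV) m = m by rw [hxξ, hMξ m hm, add_zero])
      rw [inv_apply_apply] at this
      exact this.symm
    rw [LinearMap.sub_apply, conjOp, Module.End.mul_apply, Module.End.mul_apply, hxim, hxξ,
      hWR _ hcm (hc.2.2.1 ⟨m, rfl⟩), add_zero, sub_self]
  -- algebra
  let S : Set EV := {u | ∃ z ∈ U, one1 s q (op z) = u}
  have hSsub : ∀ u ∈ S, ∀ v ∈ S, u - v ∈ S := by
    rintro _ ⟨a, ha, rfl⟩ _ ⟨b, hb, rfl⟩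
    exact ⟨a * b⁻¹, U.mul_mem ha (U.inv_mem hb), by
      rw [op_mul_one1 hp ha (U.inv_mem hb), (op_inv_degrees hp hb).1, sub_eq_add_neg]⟩
  have hSadd : ∀ u ∈ S, ∀ v ∈ S, u + v ∈ S := by
    rintro _ ⟨a, ha, rfl⟩ _ ⟨b, hb, rfl⟩
    exact ⟨a * b, U.mul_mem ha hb, op_mul_one1 hp ha hb⟩
  have hSx : ∀ u ∈ S, conjOp x u ∈ S := by
    rintro _ ⟨a, ha, rfl⟩
    exact ⟨_, hxU a ha, (hLone a).symm⟩
  have hSbr : ∀ u ∈ S, ∀ v ∈ S, conjOp x (u * v - v * u) = u * v - v * u := by
    rintro _ ⟨a, ha, rfl⟩ _ ⟨b, hb, rfl⟩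
    exact hcls _ (hbr a ha b hb)
  have hSzero : ∀ u ∈ S, u * conjOp x u - conjOp x u * u = 0 := by
    rintro _ ⟨a, ha, rfl⟩
    exact hzero a ha
  let Lf : EV → EV := fun u => conjOp x u - u
  have hLS : ∀ u ∈ S, Lf u ∈ S := fun u hu => hSsub _ (hSx u hu) _ hu
  let br : EV → EV → EV := fun u v => u * v - v * u
  have hsym : ∀ u ∈ S, ∀ v ∈ S, br u (Lf v) = br (Lf u) v := by
    intro u hu v hv
    have h := hSzero _ (hSadd u hu v hv)
    have h1 := hSzero u hu
    have h2 := hSzero v hv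
    simp only [conjOp_add] at h
    simp only [br, Lf]
    linear_combination (norm := noncomm_ring) h - h1 - h2
  have hinv : ∀ u ∈ S, ∀ v ∈ S, br (Lf u) v + br u (Lf v) + br (Lf u) (Lf v) = 0 := by
    intro u hu v hv
    have h := hSbr u hu v hv
    rw [conjOp_sub, conjOp_mul, conjOp_mul] at h
    simp only [br, Lf]
    linear_combination (norm := noncomm_ring) h
  have hcx : ∀ u : EV, conjOp x u = (1 + ξ) * u * (1 - ξ) := fun u => by
    have : ((x⁻¹ : GLV) : EV) = 1 - ξ := Units.inv_eq_of_mul_eq_one_right (by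
      rw [hx1]; linear_combination (norm := noncomm_ring) -hx2)
    rw [conjOp, this, hx1]
  have hL1 : ∀ u : EV, Lf u = ξ * u - u * ξ - ξ * u * ξ := fun u => by
    simp only [Lf, hcx]; noncomm_ring
  have hL2 : ∀ u : EV, Lf (Lf u) = (-2 : ZMod p) • (ξ * u * ξ) := fun u => by
    rw [hL1, hL1, neg_smul, two_smul]
    linear_combination (norm := noncomm_ring) hx2 * u + u * hx2 - hx2 * u * ξ + ξ * u * hx2
      - hx2 * u * ξ + ξ * u * hx2 + hx2 * u * (ξ * ξ)
  have hL3 : ∀ u : EV, Lf (Lf (Lf u)) = 0 := fun u => by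
    rw [hL2 (Lf u), hL1]
    have : ξ * (ξ * u - u * ξ - ξ * u * ξ) * ξ = 0 := by
      linear_combination (norm := noncomm_ring) hx2 * u * ξ - ξ * u * hx2 - hx2 * u * (ξ * ξ)
    rw [this, smul_zero]
  have hzero1 : ∀ u ∈ S, ∀ v ∈ S, br (Lf u) v = 0 := by
    intro u hu v hv
    have e2 : ∀ a ∈ S, ∀ b ∈ S, (2 : ZMod p) • br (Lf a) b + br (Lf a) (Lf b) = 0 := fun a ha b hb => by
      rw [two_smul]; nth_rewrite 2 [← hsym a ha b hb]; exact hinv a ha b hb
    have h0 : br (Lf (Lf u)) v = 0 := by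
      have h := e2 (Lf u) (hLS u hu) v hv
      rw [hsym (Lf (Lf u)) (hLS _ (hLS u hu)) v hv, hL3] at h
      have hb0 : br 0 v = 0 := by simp [br]
      rw [hb0, add_zero] at h
      exact (smul_eq_zero.1 h).resolve_left h2
    have h := e2 u hu v hv
    rw [hsym (Lf u) (hLS u hu) v hv, h0, add_zero] at h
    exact (smul_eq_zero.1 h).resolve_left h2
  -- elements of degree one killed by all brackets vanish
  have hkill : ∀ t ∈ S, t * t = 0 → (∀ v ∈ S, br t v = 0) → t = 0 := by
    rintro _ ⟨a, ha, rfl⟩ htt hc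
    have hu1 := one1_uOps hp ha.2
    have honeone : one1 s q (one1 s q (op a)) = one1 s q (op a) := by
      have := congrArg (one1 s q) (decomp hp ha.2)
      rwa [one1_add, one1_gOps hp (two2_gOps hp), add_zero, eq_comm] at this
    refine hG.eq_zero_of_central ho htt (one1_fam hp5 hp ha htt) hu1 honeone fun z hz => ?_
    refine conjOp_eq_of_commute ?_
    have h := hc _ ⟨z, hz, rfl⟩
    simp only [br, sub_eq_zero] at h
    conv_lhs => rw [decomp hp hz.2, add_mul, g_mul_u (two2_gOps hp) hu1, add_zero]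
    conv_rhs => rw [decomp hp hz.2, mul_add, u_mul_g hu1 (two2_gOps hp), add_zero]
    exact h.symm
  have hξuξ : ∀ u ∈ S, ξ * u * ξ = 0 := by
    intro u hu
    have h0 : Lf (Lf u) = 0 := by
      refine hkill _ (hLS _ (hLS u hu)) ?_ fun v hv => hzero1 _ (hLS u hu) v hv
      rw [hL2, smul_mul_assoc, mul_smul_comm,
        show ξ * u * ξ * (ξ * u * ξ) = 0 by linear_combination (norm := noncomm_ring) ξ * u * hx2 * (u * ξ),
        smul_zero, smul_zero]
    rw [hL2] at h0
    exact (smul_eq_zero.1 h0).resolve_left (neg_ne_zero.2 h2)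
  have hfix : ∀ u ∈ S, conjOp x u = u := by
    intro u hu
    have hk := hξuξ u hu
    have hl : Lf u = ξ * u - u * ξ := by rw [hL1, hk, sub_zero]
    refine sub_eq_zero.1 (hkill _ (hLS u hu) ?_ (hzero1 u hu))
    have hb : u * (ξ * u - u * ξ) - (ξ * u - u * ξ) * u = 0 := by
      have := hzero1 u hu u hu
      simp only [br, hl] at this
      rw [← neg_eq_zero, neg_sub]
      exact this
    have hz : ξ * u * u * ξ = 0 := by
      linear_combination (norm := noncomm_ring) -(ξ * hb) + hk * u + hk * u - hx2 * u * u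
    show Lf u * Lf u = 0
    rw [hl]
    linear_combination (norm := noncomm_ring) hk * u + u * hk - hz - u * hx2 * u
  intro z hz
  exact commute_uGrp hp5 hp hcls (fun z hz => hfix _ ⟨z, hz, rfl⟩) hz

/-- An element of a normal `p`-subgroup of the stabiliser of a pair commutes with the component. -/
theorem Geo.core_linked [Finite GLV] (ho : Opp G d s q) {x : GLV} (hx2 : op x * op x = 0)
    {N0 : Subgroup GLV} (hN : IsPGroup p N0) (hxN : x ∈ N0) (hNs : N0 ≤ stab G s) (hNq : N0 ≤ stab G q)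
    (hLN : ∀ l ∈ pairGrp G ho.left.sq ho.right.sq, l ∈ stab G s → l ∈ stab G q →
      l ∈ normalizer (N0 : Set GLV)) {w : EV} (hw : Root G d w) (hl : Linked G d s w) :
    x * expU w = expU w * x := by
  have hxs := hNs hxN
  -- a fixed member of the class
  have hmove : ∀ c ∈ Cls G s, conjOp x c - c ∈ Cls G s := by
    intro c hc
    have h1 : conjOp x c ∈ Cls G s := by
      refine ⟨conjOp_sq hc.1, hc.2.1.conj hxs.1, ?_, ?_⟩
      · rw [range_conjOp]
        exact (Submodule.map_mono hc.2.2.1).trans (by rw [← range_conjOp, hxs.2.1])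
      · rw [ker_conjOp]
        exact le_trans (by rw [← ker_conjOp, hxs.2.2]) (Submodule.map_mono hc.2.2.2)
    have := Cls.add ho.left.sq h1 (Cls.smul hc (-1 : ZMod p))
    rwa [neg_one_smul, ← sub_eq_add_neg] at this
  have hcx : ∀ u : EV, conjOp x u - u = op x * u - u * op x - op x * u * op x := fun u => by
    have : ((x⁻¹ : GLV) : EV) = 1 - op x := Units.inv_eq_of_mul_eq_one_right (by
      rw [val_eq x]; linear_combination (norm := noncomm_ring) -hx2)
    rw [conjOp, this, val_eq x]; noncomm_ring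
  obtain ⟨e, hec, he0, hefix⟩ : ∃ e ∈ Cls G s, e ≠ 0 ∧ conjOp x e = e := by
    by_cases h1 : conjOp x s - s = 0
    · exact ⟨s, ho.left.mem_cls, ho.left.ne_zero hG.minRank, sub_eq_zero.1 h1⟩
    set s1 := conjOp x s - s with hs1
    have hc1 := hmove s ho.left.mem_cls
    by_cases h2 : conjOp x s1 - s1 = 0
    · exact ⟨s1, hc1, h1, sub_eq_zero.1 h2⟩
    set s2 := conjOp x s1 - s1 with hs2
    refine ⟨s2, hmove s1 hc1, h2, sub_eq_zero.1 ?_⟩
    simp only [hs2, hs1, hcx]
    set ξ := op x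
    have z : ∀ a, ξ * (ξ * a) = 0 := fun a => by rw [← mul_assoc, hx2, zero_mul]
    simp only [mul_add, add_mul, mul_sub, sub_mul, mul_assoc, z, hx2, mul_zero, zero_mul, sub_zero, zero_sub,
      mul_neg, neg_mul, neg_zero, sub_self, add_zero, neg_neg]
  obtain ⟨her, hR, hK⟩ := Cls.root hG.minRank ho.left hec he0
  have hse : Same s e := ⟨hR, hK⟩
  have hn : ¬ IsNilpotent (q * e) := fun h' =>
    ho.nonnil hG.minRank (hG.nil_of_same her ho.right ho.left ho.right hse.symm (.refl q) h')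
  obtain ⟨q', ho', hq', -⟩ := hG.exists_exact her ho.right hn
  have hfq : conjOp x q' = q' := by
    have hxq' : x ∈ stab G q' := by rw [stab_eq_of_same hq']; exact hNq hxN
    refine hG.opp_unique ho' ⟨her, ho'.right.conj hxs.1, ?_, ?_⟩ hxq'.2
    · have := congrArg (conjOp x) ho'.sqs
      rwa [conjOp_mul, conjOp_mul, hefix] at this
    · have := congrArg (conjOp x) ho'.qsq
      rwa [conjOp_mul, conjOp_mul, hefix] at this
  have e1 : pairGrp G ho'.left.sq ho'.right.sq = pairGrp G ho.left.sq ho.right.sq := by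
    rw [pairGrp, pairGrp, uGrp_eq_of_same hse (hss := ho.left.sq), uGrp_eq_of_same hq' (hss := ho.right.sq)]
  have hcomm := hG.core_pair ho' hxs.1 hx2 hefix hfq hN hxN (by rw [stab_eq_of_same hse]; exact hNs)
    (by rw [e1, stab_eq_of_same hse, stab_eq_of_same hq']; exact hLN)
  exact hG.comm_linked ho' hcomm hfq ((hG.linked_same her ho.left hse.symm).trans hl) hw

end CfsgLib.Flavell.KL
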