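import Cfsg.Agent.Lib.Flavell.KL.Central

/-!
Owner: helper26 (S1930). The group of a root fixes one class in its component; an element commuting with
that group and with an opposite commutes with the component.
-/

set_option autoImplicit false
set_option linter.unusedSectionVars false

namespace CfsgLib.Flavell.KL

open Cfsg CfsgLib.QuadPair CfsgLib.PLocal.ZJCoprime Subgroup Matrix

variable {p : ℕ} [Fact p.Prime] {V : Type} [AddCommGroup V] [Module (ZMod p) V]

local notation "GLV" => LinearMap.GeneralLinearGroup (ZMod p) V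
local notation "EV" => Module.End (ZMod p) V

variable {G : Subgroup (LinearMap.GeneralLinearGroup (ZMod p) V)} {d : ℕ} {s t q : Module.End (ZMod p) V}

theorem conj_one1 (g : GLV) (s q u : EV) :
    conjOp g (one1 s q u) = one1 (conjOp g s) (conjOp g q) (conjOp g u) := by
  simp only [one1, ff, conjOp_add, conjOp_sub, conjOp_mul, conjOp_one]

theorem conj_two2 (g : GLV) (s q u : EV) :
    conjOp g (two2 s q u) = two2 (conjOp g s) (conjOp g q) (conjOp g u) := by
  simp only [two2, conjOp_mul]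

theorem conjOp_eq_of_commute {g : GLV} {x : EV} (h : op g * x = x * op g) : conjOp g x = x := by
  rw [conjOp_eq_self, val_eq g, add_mul, mul_add, one_mul, mul_one, h]

theorem commute_of_conjOp {g : GLV} {x : EV} (hxx : x * x = 0) (h : conjOp g x = x) :
    g * expU x = expU x * g := by
  have e := expU_conj g hxx
  rw [h] at e
  conv_rhs => rw [e]
  group

/-- The degrees of `g⁻¹`. -/
theorem op_inv_degrees (hp : Pair G s q) {hss : s * s = 0} {a : GLV} (ha : a ∈ uGrp G hss) :
    one1 s q (op a⁻¹) = -one1 s q (op a) ∧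
      two2 s q (op a⁻¹) = -two2 s q (op a) + one1 s q (op a) * one1 s q (op a) := by
  have h1 := op_mul_one1 hp ((uGrp G hss).inv_mem ha) ha
  have h2 := op_mul_two2 hp ((uGrp G hss).inv_mem ha) ha
  rw [inv_mul_cancel, show op (1 : GLV) = 0 by simp [op]] at h1 h2
  simp only [one1, two2, mul_zero, zero_mul, add_zero] at h1 h2
  have e1 : one1 s q (op a⁻¹) = -one1 s q (op a) := eq_neg_of_add_eq_zero_left h1.symm
  refine ⟨e1, ?_⟩
  rw [show ff s q * op a⁻¹ * (q * s) + s * q * op a⁻¹ * ff s q = one1 s q (op a⁻¹) from rfl, e1] at h2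
  simp only [two2, one1] at h2 ⊢
  linear_combination (norm := noncomm_ring) -h2

theorem tor_degrees (hp5 : 5 ≤ p) (hp : Pair G s q) {u : EV} (hu : u ∈ uOps s) :
    one1 s q (conjOp (tor hp) u) = (2 : ZMod p) • one1 s q u ∧
      two2 s q (conjOp (tor hp) u) = (4 : ZMod p) • two2 s q u := by
  have h2 := two_ne (p := p) hp5
  have hE : (tor hp : EV) = ff s q + (2 : ZMod p) • (s * q) + (2 : ZMod p)⁻¹ • (q * s) := tor_val hp5 hp
  have hI : (((tor hp)⁻¹ : GLV) : EV) = ff s q + (2 : ZMod p)⁻¹ • (s * q) + (2 : ZMod p) • (q * s) :=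
    tor_inv_val hp5 hp
  have hR : q * s * u = 0 := r_u hp hu
  have hU : u * (s * q) = 0 := u_e hp hu
  have hF := f_u_f hp hu
  have a1 := f_f hp
  have a2 := f_e hp
  have a3 := f_r hp
  have a4 := e_f hp
  have a5 := r_f hp
  have a6 := e_e hp
  have a7 := e_r hp
  have a8 := r_e hp
  have a9 := r_r hp
  simp only [one1, two2, conjOp, hE, hI]
  generalize ff s q = f at *
  generalize s * q = e at *
  generalize q * s = r at *
  have L : ∀ {a b c : EV}, a * b = c → ∀ y, a * (b * y) = c * y := fun h y => by rw [← mul_assoc, h]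
  constructor <;>
  · simp only [mul_add, add_mul, smul_mul_assoc, mul_smul_comm, smul_add, smul_smul, mul_assoc,
      L a1, L a2, L a3, L a4, L a5, L a6, L a7, L a8, L a9, a1, a2, a3, a4, a5, a6, a7, a8, a9, zero_mul,
      mul_zero, smul_zero, add_zero, zero_add, mul_one, one_mul, inv_mul_cancel₀ h2, mul_inv_cancel₀ h2, one_smul]
    try norm_num

theorem Cls.le_uOps {c : EV} (hss : s * s = 0) (hc : c ∈ Cls G s) : c ∈ uOps s := g_le_u hss (cls_le_g hc)

/-- The element with no part of degree one attached to `z`. -/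
theorem two_sub_sq_mem_cls (hp5 : 5 ≤ p) (hp : Pair G s q) {z : GLV} (hz : z ∈ uGrp G hp.ss) :
    (2 : ZMod p) • two2 s q (op z) - one1 s q (op z) * one1 s q (op z) ∈ Cls G s := by
  set U := uGrp G hp.ss
  have hD : tor hp * z * (tor hp)⁻¹ ∈ U :=
    (mem_normalizer_iff.1 (stab_le_normalizer_uGrp (tor_stab hp5 hp).1) z).1 hz
  set y := tor hp * z * (tor hp)⁻¹ * (z⁻¹ * z⁻¹) with hy
  have hi := U.inv_mem hz
  have hyU : y ∈ U := U.mul_mem hD (U.mul_mem hi hi)
  obtain ⟨i1, i2⟩ := op_inv_degrees hp hz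
  obtain ⟨d1, d2⟩ := tor_degrees hp5 hp hz.2
  rw [← op_conj_val] at d1 d2
  have y1 : one1 s q (op y) = 0 := by
    rw [hy, op_mul_one1 hp hD (U.mul_mem hi hi), op_mul_one1 hp hi hi, d1, i1, two_smul]; abel
  have y2 : two2 s q (op y) = (2 : ZMod p) • two2 s q (op z) - one1 s q (op z) * one1 s q (op z) := by
    rw [hy, op_mul_two2 hp hD (U.mul_mem hi hi), op_mul_two2 hp hi hi, op_mul_one1 hp hi hi, d1, d2, i1, i2]
    simp only [mul_add, mul_neg, neg_mul, smul_mul_assoc, neg_neg]
    module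
  have hop : op y = two2 s q (op y) := by
    conv_lhs => rw [decomp hp hyU.2, y1, zero_add]
  have hg : op y ∈ gOps s := hop ▸ two2_gOps hp
  have hsq : op y * op y = 0 := u_mul_g (g_le_u hp.ss hg) hg
  rw [← y2, ← hop]
  exact ⟨hsq, fam_of_mem hyU.1 hsq, hg.1, hg.2⟩

/-- A square zero part of degree one lies in the operators of `G`. -/
theorem one1_fam (hp5 : 5 ≤ p) (hp : Pair G s q) {z : GLV} (hz : z ∈ uGrp G hp.ss)
    (h0 : one1 s q (op z) * one1 s q (op z) = 0) : Fam G (one1 s q (op z)) := by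
  set U := uGrp G hp.ss
  set o := one1 s q (op z) with ho
  have hD : tor hp * z * (tor hp)⁻¹ ∈ U :=
    (mem_normalizer_iff.1 (stab_le_normalizer_uGrp (tor_stab hp5 hp).1) z).1 hz
  have hi := U.inv_mem hz
  have hii := U.mul_mem hi hi
  set y := tor hp * z * (tor hp)⁻¹ * (z⁻¹ * z⁻¹ * (z⁻¹ * z⁻¹)) with hy
  have hyU : y ∈ U := U.mul_mem hD (U.mul_mem hii hii)
  obtain ⟨i1, i2⟩ := op_inv_degrees hp hz
  obtain ⟨d1, d2⟩ := tor_degrees hp5 hp hz.2
  rw [← op_conj_val] at d1 d2
  have y1 : one1 s q (op y) = (-2 : ZMod p) • o := by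
    rw [hy, op_mul_one1 hp hD (U.mul_mem hii hii), op_mul_one1 hp hii hii, op_mul_one1 hp hi hi, d1, i1, ← ho]
    module
  have y2 : two2 s q (op y) = 0 := by
    rw [hy, op_mul_two2 hp hD (U.mul_mem hii hii), op_mul_two2 hp hii hii, op_mul_two2 hp hi hi,
      op_mul_one1 hp hii hii, op_mul_one1 hp hi hi, d1, d2, i1, i2, ← ho]
    simp only [mul_add, add_mul, mul_neg, neg_mul, smul_mul_assoc, h0, neg_zero, smul_zero, add_zero]
    module
  have hop : op y = (-2 : ZMod p) • o := by rw [decomp hp hyU.2, y1, y2, add_zero]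
  have hsq : op y * op y = 0 := by rw [hop, smul_mul_assoc, mul_smul_comm, h0, smul_zero, smul_zero]
  have := fam_of_mem hyU.1 hsq
  rw [hop] at this
  exact Fam.of_smul (neg_ne_zero.2 (two_ne hp5)) this

/-- An element fixing the degrees commutes with `uGrp`. -/
theorem commute_uGrp (hp5 : 5 ≤ p) (hp : Pair G s q) {g : GLV}
    (hc : ∀ c ∈ Cls G s, conjOp g c = c)
    (h1 : ∀ z ∈ uGrp G hp.ss, conjOp g (one1 s q (op z)) = one1 s q (op z)) {z : GLV}
    (hz : z ∈ uGrp G hp.ss) : g * z = z * g := by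
  have e := hc _ (two_sub_sq_mem_cls hp5 hp hz)
  rw [conjOp_sub, conjOp_smul, conjOp_mul, h1 z hz, sub_left_inj] at e
  have e2 := smul_right_injective EV (two_ne (p := p) hp5) e
  have : conjOp g (op z) = op z := by rw [decomp hp hz.2, conjOp_add, e2, h1 z hz]
  rw [← op_conj_val] at this
  exact mul_inv_eq_iff_eq_mul.1 (op_inj this)

/-- The group generated by the root elements. -/
def rootSub (G : Subgroup GLV) (d : ℕ) : Subgroup GLV := Subgroup.closure (rootElts G d)

theorem rootSub_le : rootSub G d ≤ G := by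
  rw [rootSub, closure_le]
  rintro _ ⟨t, ht, rfl⟩
  exact expU_mem ht.fam ht.sq

theorem expU_mem_rootSub (ht : Root G d t) : expU t ∈ rootSub G d := subset_closure ⟨t, ht, rfl⟩

theorem le_normalizer_rootSub : G ≤ normalizer (rootSub G d : Set GLV) := by
  have key : ∀ g ∈ G, ∀ y ∈ rootSub G d, g * y * g⁻¹ ∈ rootSub G d := by
    intro g hg y hy
    have hle : rootSub G d ≤ (rootSub G d).comap (MulAut.conj g).toMonoidHom := by
      rw [rootSub, closure_le]
      rintro _ ⟨t, ht, rfl⟩
      show g * expU t * g⁻¹ ∈ Subgroup.closure _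
      exact subset_closure ⟨conjOp g t, ht.conj hg, (expU_conj g ht.sq).symm⟩
    exact hle hy
  intro g hg
  rw [mem_normalizer_iff]
  refine fun y => ⟨key g hg y, fun hy => ?_⟩
  simpa [mul_assoc] using key g⁻¹ (G.inv_mem hg) _ hy

variable [FiniteDimensional (ZMod p) V] (hG : Geo G d)
include hG

theorem Geo.uGrp_le_rootSub [Finite GLV] (ho : Opp G d s q) : uGrp G ho.left.sq ≤ rootSub G d := by
  intro y hy
  have hp := hG.pair ho
  obtain ⟨z, hz, rfl⟩ := exists_comm_eq hG.hp5 hp hy
  have hK : Pair (rootSub G d) s q := hp.of_mem (expU_mem_rootSub ho.left) (expU_mem_rootSub ho.right)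
  have ht : tor hp ∈ rootSub G d := by
    have : tor hp = tor hK := Units.ext (by rw [tor_val hG.hp5, tor_val hG.hp5])
    rw [this]
    exact tor_mem hG.hp5 hK
  exact (rootSub G d).mul_mem ((mem_normalizer_iff.1 (le_normalizer_rootSub hz.1) _).1 ht)
    ((rootSub G d).inv_mem ht)

theorem Geo.eq_one_of_central [Finite GLV] {l : GLV} (hl : l ∈ rootSub G d) (hlp : l ^ p = 1)
    (hc : ∀ w, Root G d w → l * expU w = expU w * l) : l = 1 := by
  let Z : Subgroup GLV := rootSub G d ⊓ centralizer (rootSub G d : Set GLV)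
  have hZc : ∀ a ∈ Z, ∀ b ∈ Z, a * b = b * a := fun a ha b hb => (mem_centralizer_iff.1 ha.2 b hb.1).symm
  let M : Subgroup GLV :=
    { carrier := {g | g ∈ Z ∧ g ^ p = 1}
      one_mem' := ⟨Z.one_mem, one_pow p⟩
      mul_mem' := fun {a b} ha hb => ⟨Z.mul_mem ha.1 hb.1, by
        rw [(show Commute a b from hZc a ha.1 b hb.1).mul_pow, ha.2, hb.2, one_mul]⟩
      inv_mem' := fun {a} ha => ⟨Z.inv_mem ha.1, by rw [inv_pow, ha.2, inv_one]⟩ }
  have hlM : l ∈ M := by
    refine ⟨⟨hl, ?_⟩, hlp⟩
    show l ∈ centralizer ((Subgroup.closure (rootElts G d) : Subgroup GLV) : Set GLV)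
    rw [centralizer_closure, mem_centralizer_iff]
    rintro _ ⟨w, hw, rfl⟩
    exact (hc w hw).symm
  have hZn : G ≤ normalizer (Z : Set GLV) :=
    le_trans (le_inf le_normalizer_rootSub (le_normalizer_rootSub.trans fun g hg => by
      have key : ∀ g ∈ normalizer (rootSub G d : Set GLV), ∀ x ∈ centralizer (rootSub G d : Set GLV),
          g * x * g⁻¹ ∈ centralizer (rootSub G d : Set GLV) := fun g hg x hx => by
        refine mem_centralizer_iff.2 fun y hy => ?_
        have e := mem_centralizer_iff.1 hx _ ((mem_normalizer_iff''.1 hg y).1 hy)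
        calc y * (g * x * g⁻¹) = g * (g⁻¹ * y * g * x) * g⁻¹ := by group
          _ = g * (x * (g⁻¹ * y * g)) * g⁻¹ := by rw [e]
          _ = _ := by group
      rw [mem_normalizer_iff]
      refine fun x => ⟨key g hg x, fun hx => ?_⟩
      simpa [mul_assoc] using key g⁻¹ (inv_mem hg) _ hx))
      inf_normalizer_le_normalizer_inf
  have hMn : G ≤ normalizer (M : Set GLV) := fun g hg => by
    rw [mem_normalizer_iff]
    intro y
    show y ∈ Z ∧ y ^ p = 1 ↔ g * y * g⁻¹ ∈ Z ∧ (g * y * g⁻¹) ^ p = 1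
    rw [← mem_normalizer_iff.1 (hZn hg) y, conj_pow, conj_eq_one_iff]
  have hbot := hG.core M (fun g hg => rootSub_le hg.1.1) hMn (fun g => ⟨1, Subtype.ext (by
    rw [pow_one, SubgroupClass.coe_pow, g.2.2]; rfl)⟩)
  rwa [hbot, mem_bot] at hlM

/-- An element commuting with `uGrp` and with an opposite commutes with all linked roots. -/
theorem Geo.comm_linked [Finite GLV] (ho : Opp G d s q) {g : GLV}
    (hU : ∀ z ∈ uGrp G ho.left.sq, g * z = z * g) (hq : conjOp g q = q) {w : EV}
    (hl : Linked G d s w) (hw : Root G d w) : g * expU w = expU w * g := by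
  let P : EV → Prop := fun t => ∃ t0 q0, ∃ h : Opp G d t0 q0, Same t t0 ∧
    (∀ z ∈ uGrp G h.left.sq, g * z = z * g) ∧ conjOp g q0 = q0
  have main : P w := by
    clear hw
    induction hl with
    | refl => exact ⟨s, q, ho, .refl s, hU, hq⟩
    | @tail b c _ hbc ih =>
      obtain ⟨t0, q0, h, hsame, hgU, hgq⟩ := ih
      have hn : ¬ IsNilpotent (c * t0) := fun e =>
        hbc.2.2 (hG.nil_of_same h.left hbc.2.1 hbc.1 hbc.2.1 hsame.symm (.refl c) e)
      obtain ⟨q1, ho1, hs1, -⟩ := hG.exists_exact h.left hbc.2.1 hn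
      obtain ⟨z, hz, hzq⟩ := exists_move hG.hp5 (hG.pair h) (hG.pair ho1)
      have hgs : conjOp g t0 = t0 := by
        have e := hgU _ (expU_mem_uGrp h.left.sq h.left.fam (Cls.le_uOps h.left.sq h.left.mem_cls))
        refine conjOp_eq_self.2 ?_
        have e' := congrArg (fun x : GLV => (x : EV)) e
        simpa only [Units.val_mul, expU_val h.left.sq, add_mul, mul_add, one_mul, mul_one, add_right_inj]
          using e'
      have hgq1 : conjOp g q1 = q1 := by
        rw [← hzq, conjOp_conjOp, hgU z hz, ← conjOp_conjOp, hgq]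
      refine ⟨q1, t0, ho1.symm, hs1, fun y hy => ?_, hgs⟩
      set hp1 := hG.pair ho1
      obtain ⟨hn1, hn2⟩ := weyl_conj hp1
      have hgn : g * hp1.I = hp1.I * g := by
        refine Units.ext ?_
        rw [Units.val_mul, Units.val_mul, weyl_val]
        refine conjOp_eq_self.1 ?_
        simp only [ff, conjOp_add, conjOp_sub, conjOp_mul, conjOp_one, hgs, hgq1]
      have hnG : hp1.I ∈ G := hp1.rho_mem hG.hp5 _
      have hy' : hp1.I⁻¹ * y * hp1.I ∈ uGrp G h.left.sq := by
        have hsm : Same t0 (conjOp hp1.I⁻¹ q1) := by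
          have e : conjOp hp1.I⁻¹ q1 = (-1 : ZMod p) • t0 := by
            have := congrArg (fun x => (-1 : ZMod p) • conjOp hp1.I⁻¹ x) hn1
            simp only [conjOp_conjOp, inv_mul_cancel, conjOp_id] at this
            rw [this, ← conjOp_smul, neg_one_smul, neg_neg]
          rw [e]
          exact ⟨LinearMap.range_smul _ _ (neg_ne_zero.2 one_ne_zero),
            LinearMap.ker_smul _ _ (neg_ne_zero.2 one_ne_zero)⟩
        have := conj_uGrp hG (G.inv_mem hnG) (htt := conjOp_sq ho1.right.sq) hy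
        rw [inv_inv] at this
        rwa [uGrp_eq_of_same hsm (hss := h.left.sq)] at this
      have e := hgU _ hy'
      calc g * y = hp1.I * (g * (hp1.I⁻¹ * y * hp1.I)) * hp1.I⁻¹ := by
            rw [← mul_assoc hp1.I g, ← hgn]; group
        _ = hp1.I * (hp1.I⁻¹ * y * hp1.I * g) * hp1.I⁻¹ := by rw [e]
        _ = y * g := by
            rw [mul_assoc _ hp1.I g, ← hgn]; group
  obtain ⟨t0, q0, h, hsame, hgU, -⟩ := main
  exact hgU _ (expU_mem_uGrp hw.sq hw.fam (Cls.le_uOps h.left.sq (cls_of_same hsame.symm hw.sq hw.fam)))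

/-- A root fixed by `uGrp` inside the filtration operators is in the class. -/
theorem Geo.same_of_fix_mem [Finite GLV] (ho : Opp G d s q) (ht : Root G d t) (hu : t ∈ uOps s)
    (hfix : ∀ z ∈ uGrp G ho.left.sq, z ∈ stab G t) : Same s t := by
  have hp := hG.pair ho
  by_contra hns
  have hgs : t ∉ gOps s := fun h =>
    hns (same_of_cls hG.minRank ho.left ⟨ht.sq, ht.fam, h.1, h.2⟩ (ht.ne_zero hG.minRank))
  have hcomm : ∀ z ∈ uGrp G ho.left.sq, op z * t = t * op z := by
    intro z hz
    set δ := conjOp z t - t with hδ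
    have hr := ht.conj hz.1
    have hδc : δ ∈ Cls G t := by
      have := Cls.add ht.sq (cls_of_same (hfix z hz).2 hr.sq hr.fam) (Cls.smul ht.mem_cls (-1 : ZMod p))
      rwa [neg_one_smul, ← sub_eq_add_neg] at this
    have hd : op z * t - t * op z ∈ gOps s :=
      Submodule.sub_mem _ (u_mul_u hz.2 hu) (u_mul_u hu hz.2)
    have hval : δ = op z * t - t * op z := by
      have : δ = (op z * t - t * op z) * ((z⁻¹ : GLV) : EV) := by
        rw [hδ, conjOp]
        have e : ((z : GLV) : EV) * ((z⁻¹ : GLV) : EV) = 1 := Units.mul_inv z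
        rw [val_eq z] at e ⊢
        linear_combination (norm := noncomm_ring) t * e
      rw [this, uGrp_inv_val hz, mul_add, mul_sub, mul_one, g_mul_u hd hz.2,
        g_mul_u hd (g_le_u ho.left.sq (u_mul_u hz.2 hz.2)), sub_zero, add_zero]
    by_contra hne
    have hδ0 : δ ≠ 0 := by rwa [hval, Ne, sub_eq_zero]
    obtain ⟨hδr, h1, h2⟩ := Cls.root hG.minRank ht hδc hδ0
    have hδs : δ ∈ Cls G s := ⟨hδr.sq, hδr.fam, (hval ▸ hd : δ ∈ gOps s).1, (hval ▸ hd : δ ∈ gOps s).2⟩
    exact hns ((same_of_cls hG.minRank ho.left hδs hδ0).trans ⟨h1.symm, h2.symm⟩)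
  set o := one1 s q t with hodef
  have hoo : o * o = 0 := by rw [one1_mul hp hu hu, ht.sq]
  have htU := expU_mem_uGrp (hss := ho.left.sq) ht.sq ht.fam hu
  have hoF : Fam G o := by
    have := one1_fam hG.hp5 hp htU (by rw [op_expU ht.sq]; exact hoo)
    rwa [op_expU ht.sq] at this
  have ho1 := one1_uOps hp hu
  have hto : t = o + two2 s q t := decomp hp hu
  have hoc : ∀ z ∈ uGrp G ho.left.sq, conjOp z o = o := fun z hz => by
    refine conjOp_eq_of_commute ?_
    have e := hcomm z hz
    rw [hto, mul_add, add_mul, u_mul_g hz.2 (two2_gOps hp), g_mul_u (two2_gOps hp) hz.2, add_zero,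
      add_zero] at e
    exact e
  have hone : one1 s q o = o := by
    have := congrArg (one1 s q) hto
    rwa [one1_add, one1_gOps hp (two2_gOps hp), add_zero, ← hodef, eq_comm] at this
  have h0 := hG.eq_zero_of_central ho hoo hoF ho1 hone hoc
  exact hgs (by rw [hto, h0, zero_add]; exact two2_gOps hp)

/-- `uGrp s` fixes only the class of `s` in the component of `s`. -/
theorem Geo.same_of_fix [Finite GLV] (hs : Root G d s) (ht : Root G d t) (hl : Linked G d s t)
    (hfix : uGrp G hs.sq ≤ stab G t) : Same s t := by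
  obtain ⟨q, ho⟩ := hG.opp s hs
  have hp := hG.pair ho
  have hsU := expU_mem_uGrp (hss := hs.sq) hs.sq hs.fam (Cls.le_uOps hs.sq hs.mem_cls)
  have hst := hG.commute_of_fix hs ht (hfix hsU)
  by_cases hmov : ∃ z ∈ uGrp G hs.sq, conjOp z t ≠ t
  · obtain ⟨z, hz, hne⟩ := hmov
    have hr := ht.conj hz.1
    have hδc : conjOp z t - t ∈ Cls G t := by
      have := Cls.add ht.sq (cls_of_same (hfix hz).2 hr.sq hr.fam) (Cls.smul ht.mem_cls (-1 : ZMod p))
      rwa [neg_one_smul, ← sub_eq_add_neg] at this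
    have hδ0 : conjOp z t - t ≠ 0 := sub_ne_zero.2 hne
    obtain ⟨hδr, h1, h2⟩ := Cls.root hG.minRank ht hδc hδ0
    have hsame : Same t (conjOp z t - t) := ⟨h1, h2⟩
    have hδu : conjOp z t - t ∈ uOps s := by
      obtain ⟨a1, a2, a3⟩ := hz.2
      have hd : op z * t - t * op z ∈ uOps s := by
        refine ⟨?_, ?_, fun m hm => ?_⟩
        · rw [mul_sub, ← mul_assoc, a1, zero_mul, ← mul_assoc, hst, mul_assoc, a1, mul_zero, sub_zero]
        · rw [sub_mul, mul_assoc, ← hst, ← mul_assoc, a2, zero_mul, mul_assoc, a2, mul_zero, sub_zero]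
        · rw [LinearMap.sub_apply, Module.End.mul_apply, Module.End.mul_apply]
          refine Submodule.sub_mem _ (a3 _ ?_) ?_
          · rw [← Module.End.mul_apply, hst, Module.End.mul_apply, hm, map_zero]
          · obtain ⟨w, hw⟩ := a3 m hm
            exact ⟨t w, by rw [← Module.End.mul_apply, hst, Module.End.mul_apply, hw]⟩
      have e : conjOp z t - t = (op z * t - t * op z) + (op z * t - t * op z) * (-op z + op z * op z) := by
        have e : ((z : GLV) : EV) * ((z⁻¹ : GLV) : EV) = 1 := Units.mul_inv z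
        rw [conjOp, uGrp_inv_val hz] at *
        rw [val_eq z] at e ⊢
        linear_combination (norm := noncomm_ring) t * e
      rw [e]
      exact Submodule.add_mem _ hd (g_le_u hs.sq (u_mul_u hd
        (Submodule.add_mem _ (Submodule.neg_mem _ hz.2) (g_le_u hs.sq (u_mul_u hz.2 hz.2)))))
    exact (hG.same_of_fix_mem ho hδr hδu fun z hz => by rw [stab_eq_of_same hsame]; exact hfix hz).trans
      hsame.symm
  push Not at hmov
  -- `t` is central: the part of `expU t` fixing the opposite is trivial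
  refine hG.same_of_fix_mem ho ht ?_ fun z hz => hfix hz
  have htG := expU_mem ht.fam ht.sq
  have hts : conjOp (expU t) s = s := conjOp_eq_of_commute (by rw [op_expU ht.sq, hst])
  obtain ⟨q1, ho1, hs1, -⟩ := hG.exists_exact hs (ho.right.conj htG) (fun e => ho.nonnil hG.minRank (by
    rw [← hts, ← conjOp_mul] at e
    have := conjOp_nilpotent (expU t)⁻¹ e
    rwa [conjOp_conjOp, inv_mul_cancel, conjOp_id] at this))
  obtain ⟨z0, hz0, hzq⟩ := exists_move hG.hp5 hp (hG.pair ho1)
  set l := z0⁻¹ * expU t with hldef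
  have hz0' := (uGrp G hs.sq).inv_mem hz0
  have hls : conjOp l s = s := by rw [hldef, ← conjOp_conjOp, hts, uGrp_fix hz0']
  have hlG : l ∈ G := G.mul_mem hz0'.1 htG
  have hlq : conjOp l q = q := by
    have hback : conjOp z0⁻¹ q1 = q := by rw [← hzq, conjOp_conjOp, inv_mul_cancel, conjOp_id]
    have hsame : Same q (conjOp l q) := by
      have := hs1.symm.conj z0⁻¹
      rwa [hback, conjOp_conjOp, ← hldef] at this
    refine hG.opp_unique ho ⟨hs, ho.right.conj hlG, ?_, ?_⟩ hsame
    · have := congrArg (conjOp l) ho.sqs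
      rwa [conjOp_mul, conjOp_mul, hls] at this
    · have := congrArg (conjOp l) ho.qsq
      rwa [conjOp_mul, conjOp_mul, hls] at this
  have hlU : ∀ z ∈ uGrp G hp.ss, l * z = z * l := by
    intro z hz
    refine commute_uGrp hG.hp5 hp (fun c hc => ?_) (fun z hz => ?_) hz
    · have h1 : conjOp (expU t) c = c := conjOp_eq_of_commute (by
        rw [op_expU ht.sq]
        exact (cls_commute hG.minRank (two_ne hG.hp5) (card_ne_three hG.hp5) hs ht
          (hG.nil_of_fix hs ht (hfix hsU)) hst hc ht.mem_cls).symm)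
      rw [hldef, ← conjOp_conjOp, h1]
      refine conjOp_eq_of_commute ?_
      rw [u_mul_g hz0'.2 (cls_le_g hc), g_mul_u (cls_le_g hc) hz0'.2]
    · have hct : expU t * z = z * expU t := (commute_of_conjOp ht.sq (hmov z hz)).symm
      rw [conj_one1, hls, hlq, ← op_conj_val,
        show l * z * l⁻¹ = z0⁻¹ * z * z0 by
          rw [hldef, mul_assoc z0⁻¹ (expU t) z, hct]; group,
        op_mul_one1 hp ((uGrp G hp.ss).mul_mem hz0' hz) hz0, op_mul_one1 hp hz0' hz,
        (op_inv_degrees hp hz0).1]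
      abel
  have hc0 : Commute z0⁻¹ (expU t) := (Commute.inv_left (commute_of_conjOp ht.sq (hmov z0 hz0)))
  have hlp : l ^ p = 1 := by
    rw [hldef, hc0.mul_pow, expU_pow_p ht.sq, mul_one]
    exact pow_p_of_cube hG.hp5 (u_mul_u_mul_u hz0'.2 hz0'.2 hz0'.2)
  have hl1 := hG.eq_one_of_central ((rootSub G d).mul_mem (hG.uGrp_le_rootSub ho hz0') (expU_mem_rootSub ht))
    hlp fun w hw => by
      by_cases hlw : Linked G d s w
      · exact hG.comm_linked ho hlU hlq hlw hw
      · have c1 : Commute (expU t) (expU w) := Units.ext (by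
          rw [Units.val_mul, Units.val_mul, expU_val ht.sq, expU_val hw.sq]
          linear_combination (norm := noncomm_ring) (hG.comm_of_not_linked ht hw fun h => hlw (hl.trans h)).2)
        have c2 : Commute (expU w) z0⁻¹ := hG.comm_uGrp_of_not_linked ho hw hlw hz0'
        exact (c2.symm.mul_left c1).eq
  have : expU t = z0 := (inv_mul_eq_one.1 hl1).symm
  have := hz0.2
  rwa [← ‹expU t = z0›, op_expU ht.sq] at this

end CfsgLib.Flavell.KL
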