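import Cfsg.Agent.Lib.PLocal.ZJCoprime.Linear

/-!
Owner: helper26 (S1930). The grading of an opposite pair of roots: the projections, the group `uGrp`
attached to a root, the stabiliser of its class, and the regular action on the opposites.
-/

set_option autoImplicit false
set_option linter.unusedSectionVars false

namespace CfsgLib.Flavell.KL

open Cfsg CfsgLib.QuadPair CfsgLib.PLocal.ZJCoprime Subgroup Matrix

variable {p : ℕ} [Fact p.Prime] {V : Type} [AddCommGroup V] [Module (ZMod p) V]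

local notation "GLV" => LinearMap.GeneralLinearGroup (ZMod p) V
local notation "EV" => Module.End (ZMod p) V

variable {G : Subgroup (LinearMap.GeneralLinearGroup (ZMod p) V)} {s q : Module.End (ZMod p) V}

/-- The part of a pair killed by both roots. -/
def ff (s q : EV) : EV := 1 - s * q - q * s

theorem val_mul_inv (g : GLV) (x : EV) : (g : EV) * (((g⁻¹ : GLV) : EV) * x) = x := by
  rw [← mul_assoc, Units.mul_inv, one_mul]

theorem apply_inv_apply (g : GLV) (v : V) : (g : EV) (((g⁻¹ : GLV) : EV) v) = v := by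
  rw [← Module.End.mul_apply, Units.mul_inv, Module.End.one_apply]

theorem inv_apply_apply (g : GLV) (v : V) : ((g⁻¹ : GLV) : EV) ((g : EV) v) = v := by
  rw [← Module.End.mul_apply, Units.inv_mul, Module.End.one_apply]

section Algebra

variable (hp : Pair G s q)
include hp

theorem e_e : s * q * (s * q) = s * q := by rw [← mul_assoc, hp.sqs]

theorem r_r : q * s * (q * s) = q * s := by rw [← mul_assoc, hp.qsq]

theorem e_r : s * q * (q * s) = 0 := by rw [mul_assoc, ← mul_assoc q, hp.qq, zero_mul, mul_zero]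

theorem r_e : q * s * (s * q) = 0 := by rw [mul_assoc, ← mul_assoc s, hp.ss, zero_mul, mul_zero]

theorem e_s : s * q * s = s := hp.sqs

theorem s_r : s * (q * s) = s := by rw [← mul_assoc, hp.sqs]

theorem s_e : s * (s * q) = 0 := by rw [← mul_assoc, hp.ss, zero_mul]

theorem r_s : q * s * s = 0 := by rw [mul_assoc, hp.ss, mul_zero]

theorem q_e : q * (s * q) = q := by rw [← mul_assoc, hp.qsq]

theorem r_q : q * s * q = q := hp.qsq

theorem s_f : s * ff s q = 0 := by
  simp only [ff, mul_sub, mul_one, ← mul_assoc, hp.ss, hp.sqs, zero_mul]; abel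

theorem f_s : ff s q * s = 0 := by
  simp only [ff, sub_mul, one_mul, mul_assoc, hp.ss, mul_zero]
  rw [← mul_assoc, hp.sqs]; abel

theorem q_f : q * ff s q = 0 := by
  simp only [ff, mul_sub, mul_one, ← mul_assoc, hp.qq, hp.qsq, zero_mul]; abel

theorem f_q : ff s q * q = 0 := by
  simp only [ff, sub_mul, one_mul, mul_assoc, hp.qq, mul_zero]
  rw [← mul_assoc, hp.qsq]; abel

theorem f_e : ff s q * (s * q) = 0 := by rw [← mul_assoc, f_s hp, zero_mul]

theorem f_r : ff s q * (q * s) = 0 := by rw [← mul_assoc, f_q hp, zero_mul]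

theorem e_f : s * q * ff s q = 0 := by rw [mul_assoc, q_f hp, mul_zero]

theorem r_f : q * s * ff s q = 0 := by rw [mul_assoc, s_f hp, mul_zero]

theorem f_f : ff s q * ff s q = ff s q := by
  conv_lhs => arg 2; rw [ff]
  rw [mul_sub, mul_sub, mul_one, f_e hp, f_r hp, sub_zero, sub_zero]

end Algebra

/-! ### The class of a root -/

/-- The same image and kernel. -/
def Same (s t : EV) : Prop := LinearMap.range t = LinearMap.range s ∧ LinearMap.ker t = LinearMap.ker s

theorem Same.refl (s : EV) : Same s s := ⟨rfl, rfl⟩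

theorem Same.symm {s t : EV} (h : Same s t) : Same t s := ⟨h.1.symm, h.2.symm⟩

theorem Same.trans {s t u : EV} (h : Same s t) (h' : Same t u) : Same s u := ⟨h'.1.trans h.1, h'.2.trans h.2⟩

theorem ker_conjOp (g : GLV) (x : EV) :
    LinearMap.ker (conjOp g x) = (LinearMap.ker x).map (g : EV) := by
  ext v
  rw [LinearMap.mem_ker, Submodule.mem_map]
  constructor
  · intro h
    refine ⟨((g⁻¹ : GLV) : EV) v, ?_, apply_inv_apply g v⟩
    have := congrArg ((g⁻¹ : GLV) : EV) h
    rwa [conjOp, Module.End.mul_apply, Module.End.mul_apply, inv_apply_apply, map_zero] at this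
  · rintro ⟨w, hw, rfl⟩
    rw [conjOp, Module.End.mul_apply, Module.End.mul_apply, inv_apply_apply, LinearMap.mem_ker.1 hw, map_zero]

theorem Same.conj {s t : EV} (h : Same s t) (g : GLV) : Same (conjOp g s) (conjOp g t) :=
  ⟨by rw [range_conjOp, range_conjOp, h.1], by rw [ker_conjOp, ker_conjOp, h.2]⟩

/-- The stabiliser in `G` of the class of `s`. -/
def stab (G : Subgroup GLV) (s : EV) : Subgroup GLV where
  carrier := {g | g ∈ G ∧ Same s (conjOp g s)}
  one_mem' := ⟨G.one_mem, by rw [conjOp_id]; exact .refl s⟩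
  mul_mem' := fun {a b} ha hb => ⟨G.mul_mem ha.1 hb.1, by
    rw [← conjOp_conjOp]; exact ha.2.trans (hb.2.conj a)⟩
  inv_mem' := fun {a} ha => ⟨G.inv_mem ha.1, by
    have := ha.2.symm.conj a⁻¹
    rwa [conjOp_conjOp, inv_mul_cancel, conjOp_id] at this⟩

theorem stab_le : stab G s ≤ G := fun _ h => h.1

theorem mem_stab {g : GLV} : g ∈ stab G s ↔ g ∈ G ∧ Same s (conjOp g s) := Iff.rfl

theorem stab_eq_of_same {t : EV} (h : Same s t) : stab G t = stab G s := by
  ext g
  exact ⟨fun hg => ⟨hg.1, (h.trans hg.2).trans (h.conj g).symm⟩,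
    fun hg => ⟨hg.1, (h.symm.trans hg.2).trans (h.conj g)⟩⟩

theorem conj_stab {g h : GLV} (hg : g ∈ G) (hh : h ∈ stab G s) :
    g * h * g⁻¹ ∈ stab G (conjOp g s) := by
  refine ⟨G.mul_mem (G.mul_mem hg hh.1) (G.inv_mem hg), ?_⟩
  rw [conjOp_conjOp, inv_mul_cancel_right, ← conjOp_conjOp]
  exact hh.2.conj g

theorem same_of_cls [FiniteDimensional (ZMod p) V] {d : ℕ} (hm : MinRank G d) {t : EV} (hs : Root G d s)
    (ht : t ∈ Cls G s) (h0 : t ≠ 0) : Same s t :=
  ⟨(Cls.root hm hs ht h0).2.1, (Cls.root hm hs ht h0).2.2⟩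

theorem cls_of_same {t : EV} (h : Same s t) (htt : t * t = 0) (hF : Fam G t) : t ∈ Cls G s :=
  ⟨htt, hF, h.1.le, h.2.ge⟩

/-! ### Operators lowering the filtration -/

theorem conjOp_u {g : GLV} (hg : g ∈ stab G s) {u : EV} (hu : u ∈ uOps s) : conjOp g u ∈ uOps s := by
  obtain ⟨h1, h2, h3⟩ := hu
  have hR : (LinearMap.range s).map (g : EV) = LinearMap.range s := by rw [← range_conjOp, hg.2.1]
  have hK : (LinearMap.ker s).map (g : EV) = LinearMap.ker s := by rw [← ker_conjOp, hg.2.2]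
  have hR' : ∀ v ∈ LinearMap.range s, ((g⁻¹ : GLV) : EV) v ∈ LinearMap.range s := fun v hv => by
    rw [← hR] at hv
    obtain ⟨w, hw, rfl⟩ := hv
    rwa [inv_apply_apply]
  have hK' : ∀ v ∈ LinearMap.ker s, ((g⁻¹ : GLV) : EV) v ∈ LinearMap.ker s := fun v hv => by
    rw [← hK] at hv
    obtain ⟨w, hw, rfl⟩ := hv
    rwa [inv_apply_apply]
  refine ⟨mul_eq_zero_iff.2 ?_, mul_eq_zero_iff.2 ?_, fun m hm => ?_⟩
  · rw [range_conjOp, ← hK]
    exact Submodule.map_mono (mul_eq_zero_iff.1 h1)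
  · intro v hv
    rw [LinearMap.mem_ker, conjOp, Module.End.mul_apply, Module.End.mul_apply,
      LinearMap.mem_ker.1 (mul_eq_zero_iff.1 h2 (hR' v hv)), map_zero]
  · rw [conjOp, Module.End.mul_apply, Module.End.mul_apply, ← hR]
    exact Submodule.mem_map_of_mem (h3 _ (hK' m hm))

theorem uOps_of_same {t : EV} (h : Same s t) {u : EV} : u ∈ uOps t ↔ u ∈ uOps s := by
  constructor <;> rintro ⟨h1, h2, h3⟩ <;> refine ⟨mul_eq_zero_iff.2 ?_, mul_eq_zero_iff.2 ?_, fun m hm => ?_⟩
  · rw [← h.2]; exact mul_eq_zero_iff.1 h1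
  · rw [← h.1]; exact mul_eq_zero_iff.1 h2
  · rw [← h.1]; exact h3 m (LinearMap.mem_ker.1 (h.2.symm ▸ LinearMap.mem_ker.2 hm))
  · rw [h.2]; exact mul_eq_zero_iff.1 h1
  · rw [h.1]; exact mul_eq_zero_iff.1 h2
  · rw [h.1]; exact h3 m (LinearMap.mem_ker.1 (h.2 ▸ LinearMap.mem_ker.2 hm))

theorem g_le_gmul {u y : EV} (hy : y ∈ gOps s) (hu : u ∈ uOps s) (g : GLV) (hg : (g : EV) = 1 + u) :
    y * (g : EV) = y := by rw [hg, mul_add, mul_one, g_mul_u hy hu, add_zero]

/-- The elements `1 + u` of `G` with `u` lowering the filtration. -/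
def uGrp (G : Subgroup GLV) (hss : s * s = 0) : Subgroup GLV where
  carrier := {g | g ∈ G ∧ op g ∈ uOps s}
  one_mem' := ⟨G.one_mem, by simp [op]⟩
  mul_mem' := fun {a b} ha hb => ⟨G.mul_mem ha.1 hb.1, by
    have : op (a * b) = op a + op b + op a * op b := by
      rw [op, Units.val_mul, val_eq a, val_eq b]; noncomm_ring
    rw [this]
    exact Submodule.add_mem _ (Submodule.add_mem _ ha.2 hb.2) (g_le_u hss (u_mul_u ha.2 hb.2))⟩
  inv_mem' := fun {a} ha => ⟨G.inv_mem ha.1, by
    have hi : ((a⁻¹ : GLV) : EV) = 1 - op a + op a * op a := by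
      refine Units.inv_eq_of_mul_eq_one_right ?_
      rw [val_eq a]
      linear_combination (norm := noncomm_ring) u_mul_u_mul_u ha.2 ha.2 ha.2
    have : op a⁻¹ = -op a + op a * op a := by rw [op, hi]; abel
    rw [this]
    exact Submodule.add_mem _ (Submodule.neg_mem _ ha.2) (g_le_u hss (u_mul_u ha.2 ha.2))⟩

theorem uGrp_le (hss : s * s = 0) : uGrp G hss ≤ G := fun _ h => h.1

theorem mem_uGrp {hss : s * s = 0} {g : GLV} : g ∈ uGrp G hss ↔ g ∈ G ∧ op g ∈ uOps s := Iff.rfl

theorem uGrp_inv_val {hss : s * s = 0} {g : GLV} (hg : g ∈ uGrp G hss) :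
    ((g⁻¹ : GLV) : EV) = 1 - op g + op g * op g := by
  refine Units.inv_eq_of_mul_eq_one_right ?_
  rw [val_eq g]
  linear_combination (norm := noncomm_ring) u_mul_u_mul_u hg.2 hg.2 hg.2

theorem uGrp_fix {hss : s * s = 0} {g : GLV} (hg : g ∈ uGrp G hss) : conjOp g s = s := by
  rw [conjOp_eq_self, val_eq g, add_mul, mul_add, one_mul, mul_one, hg.2.1, hg.2.2.1]

theorem uGrp_le_stab {hss : s * s = 0} : uGrp G hss ≤ stab G s :=
  fun g hg => ⟨hg.1, by rw [uGrp_fix hg]; exact .refl s⟩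

theorem stab_le_normalizer_uGrp {hss : s * s = 0} :
    stab G s ≤ normalizer (uGrp G hss : Set GLV) := by
  have key : ∀ h ∈ stab G s, ∀ g ∈ uGrp G hss, h * g * h⁻¹ ∈ uGrp G hss := by
    intro h hh g hg
    refine ⟨G.mul_mem (G.mul_mem hh.1 hg.1) (G.inv_mem hh.1), ?_⟩
    rw [show op (h * g * h⁻¹) = conjOp h (op g) by
      rw [op, Units.val_mul, Units.val_mul, conjOp, op, mul_sub, sub_mul, mul_one, Units.mul_inv]]
    exact conjOp_u hh hg.2
  intro h hh
  rw [mem_normalizer_iff]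
  refine fun g => ⟨key h hh g, fun hg => ?_⟩
  simpa [mul_assoc] using key h⁻¹ (inv_mem hh) _ hg

theorem uGrp_eq_of_same {t : EV} (h : Same s t) {hss : s * s = 0} {htt : t * t = 0} :
    uGrp G htt = uGrp G hss := by
  ext g
  exact and_congr_right fun _ => uOps_of_same h

theorem uGrp_isPGroup (hp5 : 5 ≤ p) {hss : s * s = 0} : IsPGroup p ↥(uGrp G hss) :=
  fun g => ⟨1, Subtype.ext (by
    rw [pow_one, SubgroupClass.coe_pow, OneMemClass.coe_one]
    exact pow_p_of_cube hp5 (u_mul_u_mul_u g.2.2 g.2.2 g.2.2))⟩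

theorem expU_mem_uGrp {hss : s * s = 0} {t : EV} (htt : t * t = 0) (hF : Fam G t) (hu : t ∈ uOps s) :
    expU t ∈ uGrp G hss := ⟨expU_mem hF htt, by rw [op_expU htt]; exact hu⟩

/-! ### The two degrees -/

/-- The part of degree one. -/
def one1 (s q u : EV) : EV := ff s q * u * (q * s) + s * q * u * ff s q

/-- The part of degree two. -/
def two2 (s q u : EV) : EV := s * q * u * (q * s)

section Degree

variable (hp : Pair G s q) {u v : Module.End (ZMod p) V}
include hp

theorem u_e (hu : u ∈ uOps s) : u * (s * q) = 0 := by rw [← mul_assoc, hu.2.1, zero_mul]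

theorem r_u (hu : u ∈ uOps s) : q * s * u = 0 := by rw [mul_assoc, hu.1, mul_zero]

theorem f_u_f (hu : u ∈ uOps s) : ff s q * u * ff s q = 0 := by
  refine LinearMap.ext fun m => ?_
  obtain ⟨w, hw⟩ := hu.2.2 (ff s q m) (by rw [← Module.End.mul_apply, s_f hp]; rfl)
  rw [Module.End.mul_apply, Module.End.mul_apply, ← hw, ← Module.End.mul_apply, f_s hp]; rfl

theorem decomp (hu : u ∈ uOps s) : u = one1 s q u + two2 s q u := by
  have e1 : u = (s * q + ff s q + q * s) * u * (s * q + ff s q + q * s) := by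
    simp only [ff]; noncomm_ring
  conv_lhs => rw [e1]
  simp only [one1, two2, add_mul, mul_add]
  rw [mul_assoc _ u (s * q), mul_assoc _ u (s * q), mul_assoc _ u (s * q), u_e hp hu, f_u_f hp hu,
    r_u hp hu]
  simp only [mul_zero, zero_mul]
  abel

theorem one1_mul (hu : u ∈ uOps s) (hv : v ∈ uOps s) : one1 s q u * one1 s q v = u * v := by
  have h2 : ∀ {a b : EV}, a ∈ uOps s → b ∈ uOps s → two2 s q a * b = 0 := fun {a b} ha hb => by
    rw [two2, mul_assoc, r_u hp hb, mul_zero]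
  have h2' : ∀ {a b : EV}, a ∈ uOps s → b ∈ uOps s → a * two2 s q b = 0 := fun {a b} ha hb => by
    rw [two2, mul_assoc (s * q) b, ← mul_assoc a, u_e hp ha, zero_mul]
  have hT : two2 s q v ∈ uOps s := by
    refine g_le_u hp.ss ⟨?_, fun m hm => ?_⟩
    · rintro m ⟨w, rfl⟩; exact ⟨q (v ((q * s) w)), rfl⟩
    · rw [LinearMap.mem_ker, two2, Module.End.mul_apply _ (q * s), Module.End.mul_apply q s,
        LinearMap.mem_ker.1 hm, map_zero, map_zero]
  conv_rhs => rw [decomp hp hu, add_mul, h2 hu hv, add_zero, decomp hp hv, mul_add]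
  have : one1 s q u * two2 s q v = 0 := by
    have h := h2' hu hv
    conv_lhs at h => rw [decomp hp hu, add_mul, h2 hu hT, add_zero]
    exact h
  rw [this, add_zero]

theorem two2_gOps : two2 s q u ∈ gOps s := by
  refine ⟨?_, fun m hm => ?_⟩
  · rintro m ⟨w, rfl⟩; exact ⟨q (u ((q * s) w)), rfl⟩
  · rw [LinearMap.mem_ker, two2, Module.End.mul_apply _ (q * s), Module.End.mul_apply q s,
      LinearMap.mem_ker.1 hm, map_zero, map_zero]

theorem one1_gOps {y : EV} (hy : y ∈ gOps s) : one1 s q y = 0 := by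
  have h1 : y * ff s q = 0 := mul_eq_zero_iff.2 ((mul_eq_zero_iff.1 (s_f hp)).trans hy.2)
  have h2 : ff s q * y = 0 := mul_eq_zero_iff.2 (hy.1.trans (mul_eq_zero_iff.1 (f_s hp)))
  rw [one1, h2, zero_mul, mul_assoc _ y, h1, mul_zero, add_zero]

theorem two2_eq_self {y : EV} (hy : y ∈ gOps s) : two2 s q y = y := by
  have h1 : y * (s * q) = 0 := by rw [← mul_assoc, (g_le_u hp.ss hy).2.1, zero_mul]
  conv_rhs => rw [decomp hp (g_le_u hp.ss hy), one1_gOps hp hy, zero_add]

theorem one1_uOps (hu : u ∈ uOps s) : one1 s q u ∈ uOps s := by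
  have : one1 s q u = u - two2 s q u := eq_sub_of_add_eq (decomp hp hu).symm
  rw [this]
  exact Submodule.sub_mem _ hu (g_le_u hp.ss (two2_gOps hp))

end Degree

theorem one1_add (s q u v : EV) : one1 s q (u + v) = one1 s q u + one1 s q v := by
  simp only [one1, mul_add, add_mul]; abel

theorem two2_add (s q u v : EV) : two2 s q (u + v) = two2 s q u + two2 s q v := by
  simp only [two2, mul_add, add_mul]

theorem op_mul (a b : GLV) : op (a * b) = op a + op b + op a * op b := by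
  rw [op, Units.val_mul, val_eq a, val_eq b]; noncomm_ring

theorem op_mul_one1 (hp : Pair G s q) {hss : s * s = 0} {a b : GLV} (ha : a ∈ uGrp G hss)
    (hb : b ∈ uGrp G hss) : one1 s q (op (a * b)) = one1 s q (op a) + one1 s q (op b) := by
  rw [op_mul, one1_add, one1_add, one1_gOps hp (u_mul_u ha.2 hb.2), add_zero]

theorem op_mul_two2 (hp : Pair G s q) {hss : s * s = 0} {a b : GLV} (ha : a ∈ uGrp G hss)
    (hb : b ∈ uGrp G hss) : two2 s q (op (a * b)) =
      two2 s q (op a) + two2 s q (op b) + one1 s q (op a) * one1 s q (op b) := by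
  rw [op_mul, two2_add, two2_add, two2_eq_self hp (u_mul_u ha.2 hb.2), one1_mul hp ha.2 hb.2]

/-! ### The torus and the Weyl element -/

theorem dia_hab (hp5 : 5 ≤ p) : (2 : ZMod p) * (-2⁻¹) = -1 := by
  rw [mul_neg, mul_inv_cancel₀ (two_ne hp5)]

/-- The element acting as `2`, `1`, `1/2` on the three degrees. -/
noncomputable def tor (hp : Pair G s q) : GLV := hp.rho (dia (2 : ZMod p) (-2⁻¹))

theorem tor_mem (hp5 : 5 ≤ p) (hp : Pair G s q) : tor hp ∈ G := hp.rho_mem hp5 _

theorem tor_val (hp5 : 5 ≤ p) (hp : Pair G s q) :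
    (tor hp : EV) = ff s q + (2 : ZMod p) • (s * q) + (2 : ZMod p)⁻¹ • (q * s) := by
  rw [tor, hp.rho_val, dia_coe (dia_hab hp5), ff]
  simp
  abel

theorem tor_inv_val (hp5 : 5 ≤ p) (hp : Pair G s q) :
    (((tor hp)⁻¹ : GLV) : EV) = ff s q + (2 : ZMod p)⁻¹ • (s * q) + (2 : ZMod p) • (q * s) := by
  refine Units.inv_eq_of_mul_eq_one_right ?_
  rw [tor_val hp5]
  simp only [mul_add, add_mul, smul_mul_assoc, mul_smul_comm, smul_smul, f_f hp, f_e hp, f_r hp, e_f hp,
    r_f hp, e_e hp, e_r hp, r_e hp, r_r hp, smul_zero, add_zero, zero_add]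
  rw [inv_mul_cancel₀ (two_ne hp5), mul_inv_cancel₀ (two_ne hp5), one_smul, one_smul, ff]
  abel

theorem tor_stab (hp5 : 5 ≤ p) (hp : Pair G s q) : tor hp ∈ stab G s ∧ tor hp ∈ stab G q := by
  have hs : conjOp (tor hp) s = (4 : ZMod p) • s := by
    rw [conjOp, tor_inv_val hp5, tor_val hp5]
    simp only [mul_add, add_mul, smul_mul_assoc, mul_smul_comm, smul_smul, f_s hp, smul_zero,
      zero_add, r_s hp, hp.sqs, s_f hp, s_e hp, s_r hp, add_zero]
    norm_num
  have hq : conjOp (tor hp) q = (4 : ZMod p)⁻¹ • q := by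
    rw [conjOp, tor_inv_val hp5, tor_val hp5]
    simp only [mul_add, add_mul, smul_mul_assoc, mul_smul_comm, smul_smul, f_q hp, smul_zero,
      zero_add, hp.qsq, mul_assoc s q q, hp.qq, mul_zero, q_f hp, q_e hp, add_zero,
      show q * (q * s) = 0 by rw [← mul_assoc, hp.qq, zero_mul]]
    rw [← mul_inv]; norm_num
  have h4 : (4 : ZMod p) ≠ 0 := by
    rw [show (4 : ZMod p) = 2 * 2 by norm_num]; exact mul_ne_zero (two_ne hp5) (two_ne hp5)
  refine ⟨⟨tor_mem hp5 hp, ?_⟩, ⟨tor_mem hp5 hp, ?_⟩⟩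
  · rw [hs]; exact ⟨LinearMap.range_smul s _ h4, LinearMap.ker_smul s _ h4⟩
  · rw [hq]; exact ⟨LinearMap.range_smul q _ (inv_ne_zero h4), LinearMap.ker_smul q _ (inv_ne_zero h4)⟩

theorem weyl_val (hp : Pair G s q) : (hp.I : EV) = ff s q + s - q := by rw [hp.I_val, ff]; abel

theorem weyl_inv_val (hp : Pair G s q) : ((hp.I⁻¹ : GLV) : EV) = ff s q - s + q := by
  refine Units.inv_eq_of_mul_eq_one_right ?_
  rw [weyl_val]
  simp only [mul_add, mul_sub, add_mul, sub_mul, f_f hp, f_s hp, f_q hp, s_f hp, q_f hp, hp.ss, hp.qq]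
  rw [ff]; abel

theorem weyl_conj (hp : Pair G s q) : conjOp hp.I s = -q ∧ conjOp hp.I q = -s := by
  rw [conjOp, conjOp, weyl_inv_val, weyl_val]
  constructor <;>
  simp only [mul_add, mul_sub, add_mul, sub_mul, f_s hp, f_q hp, hp.ss, hp.qq, r_f hp,
    e_f hp, hp.sqs, hp.qsq, r_s hp, zero_add, zero_sub, neg_mul, add_zero, sub_zero,
    show s * q * q = 0 by rw [mul_assoc, hp.qq, mul_zero]] <;> abel

/-! ### The regular action on opposites -/

theorem proj_eq (hp5 : 5 ≤ p) (hp : Pair G s q) :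
    (3 : ZMod p) • (s * q) = ((tor hp : EV) - 1) * ((2 : ZMod p) • (tor hp : EV) - 1) := by
  rw [tor_val hp5]
  simp only [mul_add, add_mul, mul_sub, sub_mul, smul_add, smul_mul_assoc, mul_smul_comm, smul_smul,
    one_mul, mul_one, f_f hp, f_e hp, f_r hp, e_f hp, r_f hp, e_e hp, e_r hp, r_e hp, r_r hp, smul_zero,
    add_zero, zero_add, mul_inv_cancel₀ (two_ne (p := p) hp5), one_smul]
  rw [ff]
  have h2 := two_ne (p := p) hp5
  match_scalars <;> field_simp <;> ring

theorem inv_proj_eq (hp5 : 5 ≤ p) (hp : Pair G s q) :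
    q * s = (2 : ZMod p) • (s * q - ((tor hp : EV) - 1)) := by
  rw [tor_val hp5, ff]
  have h2 := two_ne (p := p) hp5
  match_scalars <;> field_simp <;> ring

/-- An element of `uGrp` commuting with the torus is trivial. -/
theorem eq_one_of_comm (hp5 : 5 ≤ p) (hp : Pair G s q) {z : GLV} (hz : z ∈ uGrp G hp.ss)
    (hc : z * tor hp = tor hp * z) : z = 1 := by
  have h := congrArg (fun g : GLV => (g : EV)) hc
  simp only [Units.val_mul] at h
  rw [val_eq z, add_mul, mul_add, one_mul, mul_one, add_right_inj] at h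
  obtain ⟨u, hu⟩ : ∃ u, u = op z := ⟨_, rfl⟩
  rw [← hu] at h
  have he : u * (s * q) = s * q * u := by
    refine smul_right_injective EV (three_ne (p := p) hp5) ?_
    show (3 : ZMod p) • (u * (s * q)) = (3 : ZMod p) • (s * q * u)
    rw [← mul_smul_comm (3 : ZMod p) u (s * q), ← smul_mul_assoc (3 : ZMod p) (s * q) u, proj_eq hp5 hp]
    have h1 : Commute u ((tor hp : EV) - 1) := (show Commute u (tor hp : EV) from h).sub_right (Commute.one_right u)
    have h2 : Commute u ((2 : ZMod p) • (tor hp : EV) - 1) :=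
      ((show Commute u (tor hp : EV) from h).smul_right _).sub_right (Commute.one_right u)
    exact (h1.mul_right h2).eq
  have hr : u * (q * s) = q * s * u := by
    rw [inv_proj_eq hp5 hp]
    exact ((show Commute u (s * q) from he).sub_right
      ((show Commute u (tor hp : EV) from h).sub_right (Commute.one_right u))).smul_right _ |>.eq
  have hzu : u ∈ uOps s := hu ▸ hz.2
  rw [u_e hp hzu] at he
  rw [r_u hp hzu] at hr
  have : u = 0 := by
    have hd := decomp hp hzu
    rw [one1, two2, ← he, zero_mul, zero_mul, mul_assoc (ff s q) u, hr, mul_zero, add_zero, add_zero] at hd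
    exact hd
  exact op_eq_zero.1 (hu ▸ this)

/-- Commutation with the torus is onto `uGrp`. -/
theorem exists_comm_eq [Finite GLV] (hp5 : 5 ≤ p) (hp : Pair G s q) {y : GLV} (hy : y ∈ uGrp G hp.ss) :
    ∃ z ∈ uGrp G hp.ss, z * tor hp * z⁻¹ * (tor hp)⁻¹ = y := by
  set U := uGrp G hp.ss
  have hDU : ∀ z ∈ U, tor hp * z * (tor hp)⁻¹ ∈ U := fun z hz =>
    (mem_normalizer_iff.1 (stab_le_normalizer_uGrp (tor_stab hp5 hp).1) z).1 hz
  let φ : U → U := fun z => ⟨z * (tor hp * (z : GLV)⁻¹ * (tor hp)⁻¹),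
    U.mul_mem z.2 (hDU _ (U.inv_mem z.2))⟩
  have hinj : Function.Injective φ := by
    intro z z' e
    have e' := congrArg Subtype.val e
    simp only [φ, ← mul_assoc] at e'
    have hc : (z' : GLV)⁻¹ * z * tor hp = tor hp * ((z' : GLV)⁻¹ * z) := by
      have e2 := congrArg (fun g => (z' : GLV)⁻¹ * g * tor hp * z) e'
      simpa [mul_assoc] using e2
    exact Subtype.ext (inv_mul_eq_one.1 (eq_one_of_comm hp5 hp (U.mul_mem (U.inv_mem z'.2) z.2) hc)).symm
  obtain ⟨z, hz⟩ := (Finite.injective_iff_surjective.1 hinj) ⟨_, hy⟩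
  refine ⟨z, z.2, ?_⟩
  have := congrArg Subtype.val hz
  simpa only [φ, ← mul_assoc] using this

/-- Opposites of a root are conjugate under `uGrp`. -/
theorem exists_move [Finite GLV] (hp5 : 5 ≤ p) (hp : Pair G s q) {q' : EV} (hp' : Pair G s q') :
    ∃ z ∈ uGrp G hp.ss, conjOp z q = q' := by
  set U := uGrp G hp.ss
  have hmem : tor hp' * (tor hp)⁻¹ ∈ U := by
    refine ⟨G.mul_mem (tor_mem hp5 hp') (G.inv_mem (tor_mem hp5 hp)), ?_⟩
    have hdiff : (tor hp' : EV) - tor hp ∈ uOps s := by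
      rw [tor_val hp5, tor_val hp5, ff, ff]
      have h1 : s * q' - s * q ∈ uOps s := ⟨by simp only [mul_sub, ← mul_assoc, hp.ss, zero_mul, sub_zero],
        by rw [sub_mul, hp.sqs, hp'.sqs, sub_self], fun m _ => ⟨q' m - q m, by simp⟩⟩
      have h2 : q' * s - q * s ∈ uOps s := ⟨by rw [mul_sub, s_r hp, s_r hp', sub_self],
        by simp only [sub_mul, mul_assoc, hp.ss, mul_zero, sub_zero], fun m hm => by simp [hm]⟩
      have : (1 - s * q' - q' * s + (2 : ZMod p) • (s * q') + (2 : ZMod p)⁻¹ • (q' * s)) -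
          (1 - s * q - q * s + (2 : ZMod p) • (s * q) + (2 : ZMod p)⁻¹ • (q * s)) =
          ((2 : ZMod p) - 1) • (s * q' - s * q) + ((2 : ZMod p)⁻¹ - 1) • (q' * s - q * s) := by
        match_scalars <;> ring
      rw [this]
      exact Submodule.add_mem _ (Submodule.smul_mem _ _ h1) (Submodule.smul_mem _ _ h2)
    have hval : op (tor hp' * (tor hp)⁻¹) = ((tor hp' : EV) - tor hp) * (((tor hp)⁻¹ : GLV) : EV) := by
      rw [op, Units.val_mul, sub_mul, Units.mul_inv]
    rw [hval]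
    have hst := inv_mem (tor_stab hp5 hp).1
    obtain ⟨a1, a2, a3⟩ := hdiff
    refine ⟨by rw [← mul_assoc, a1, zero_mul], mul_eq_zero_iff.2 ?_, fun m hm => ?_⟩
    · intro v hv
      rw [LinearMap.mem_ker, Module.End.mul_apply]
      refine LinearMap.mem_ker.1 (mul_eq_zero_iff.1 a2 ?_)
      rw [← hst.2.1, range_conjOp]
      exact Submodule.mem_map_of_mem hv
    · rw [Module.End.mul_apply]
      refine a3 _ (LinearMap.mem_ker.1 ?_)
      rw [← hst.2.2, ker_conjOp]
      exact Submodule.mem_map_of_mem (LinearMap.mem_ker.2 hm)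
  obtain ⟨z, hzU, hz⟩ := exists_comm_eq hp5 hp hmem
  refine ⟨z, hzU, ?_⟩
  have hz' : z * tor hp * z⁻¹ = tor hp' := mul_right_cancel hz
  have hD : conjOp z (tor hp : EV) = tor hp' := by
    rw [← hz', conjOp, Units.val_mul, Units.val_mul]
  have e1 : conjOp z (s * q) = s * q' := by
    refine smul_right_injective EV (three_ne (p := p) hp5) ?_
    show (3 : ZMod p) • conjOp z (s * q) = (3 : ZMod p) • (s * q')
    rw [← conjOp_smul, proj_eq hp5 hp, proj_eq hp5 hp', conjOp_mul, conjOp_sub, conjOp_sub, conjOp_smul,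
      conjOp_one, hD]
  have e2 : conjOp z (q * s) = q' * s := by
    rw [inv_proj_eq hp5 hp, inv_proj_eq hp5 hp', conjOp_smul, conjOp_sub, conjOp_sub, conjOp_one, e1, hD]
  have hs : conjOp z s = s := uGrp_fix hzU
  rw [conjOp_mul, hs] at e1 e2
  calc conjOp z q = conjOp z (q * s * q) := by rw [hp.qsq]
    _ = q' * s * conjOp z q := by rw [conjOp_mul, conjOp_mul, hs, e2]
    _ = q' := by rw [mul_assoc, e1, ← mul_assoc, hp'.qsq]

theorem move_unique (hp5 : 5 ≤ p) (hp : Pair G s q) {z : GLV} (hz : z ∈ uGrp G hp.ss)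
    (h : conjOp z q = q) : z = 1 := by
  refine eq_one_of_comm hp5 hp hz (Units.ext ?_)
  rw [Units.val_mul, Units.val_mul]
  refine conjOp_eq_self.1 ?_
  rw [tor_val hp5, ff]
  simp only [conjOp_add, conjOp_sub, conjOp_smul, conjOp_mul, conjOp_one, uGrp_fix hz, h]

end CfsgLib.Flavell.KL
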