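import Cfsg.Agent.Lib.Flavell.KL.Unip
import Cfsg.Agent.Lib.QuadPair.Components

/-!
Owner: helper26 (S1930). Linked roots, and roots fixed by the group of a root.
-/

set_option autoImplicit false
set_option linter.unusedSectionVars false

namespace CfsgLib.Flavell.KL

open Cfsg CfsgLib.QuadPair CfsgLib.PLocal.ZJCoprime Subgroup Matrix

variable {p : ℕ} [Fact p.Prime] {V : Type} [AddCommGroup V] [Module (ZMod p) V]

local notation "GLV" => LinearMap.GeneralLinearGroup (ZMod p) V
local notation "EV" => Module.End (ZMod p) V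

variable {G : Subgroup (LinearMap.GeneralLinearGroup (ZMod p) V)} {d : ℕ} {s t q : Module.End (ZMod p) V}

/-- The standing hypotheses on a linear group. -/
structure Geo (G : Subgroup GLV) (d : ℕ) : Prop where
  hp5 : 5 ≤ p
  minRank : MinRank G d
  opp : ∀ s, Root G d s → ∃ q, Opp G d s q
  core : NoCore G

theorem Geo.pair [FiniteDimensional (ZMod p) V] (hG : Geo G d) (h : Opp G d s q) : Pair G s q :=
  Pair.of_opp hG.minRank h

variable [FiniteDimensional (ZMod p) V] (hG : Geo G d)
include hG

theorem Geo.unip' (hs : Root G d s) (ht : Root G d t) (h : IsNilpotent (t * s)) :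
    t * s * t = 0 ∧ s * t * s = 0 ∧ Fam G (s * t - t * s) :=
  unip hG.minRank (two_ne hG.hp5) hs ht h

theorem Geo.exists_exact (hs : Root G d s) (ht : Root G d t) (h : ¬ IsNilpotent (t * s)) :
    ∃ q, Opp G d s q ∧ Same t q ∧ q ∈ Cls G t := by
  obtain ⟨q, hq, ho⟩ := CfsgLib.QuadPair.exists_opp hG.minRank (two_ne hG.hp5) (card_ne_three hG.hp5) hs ht h
  exact ⟨q, ho, same_of_cls hG.minRank ht hq (ho.right.ne_zero hG.minRank), hq⟩

theorem Geo.nil_of_same {s' t' : EV} (hs : Root G d s) (ht : Root G d t) (hs' : Root G d s')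
    (ht' : Root G d t') (h1 : Same s s') (h2 : Same t t') (h : IsNilpotent (t * s)) : IsNilpotent (t' * s') :=
  nilp_of_cls hG.minRank (two_ne hG.hp5) (card_ne_three hG.hp5) hs ht
    (cls_of_same h1 hs'.sq hs'.fam) (cls_of_same h2 ht'.sq ht'.fam) h

/-- An opposite in a given class is unique. -/
theorem Geo.opp_unique {q' : EV} (h : Opp G d s q) (h' : Opp G d s q') (hsame : Same q q') : q' = q := by
  have z1 : q' * (1 - s * q) = 0 := mul_eq_zero_iff.2 (by
    rw [hsame.2]
    exact mul_eq_zero_iff.1 (by rw [mul_sub, mul_one, ← mul_assoc, h.qsq, sub_self]))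
  have z2 : (1 - q * s) * q' = 0 := mul_eq_zero_iff.2 (by
    rw [hsame.1]
    exact mul_eq_zero_iff.1 (by rw [sub_mul, one_mul, h.qsq, sub_self]))
  rw [mul_sub, mul_one, sub_eq_zero] at z1
  rw [sub_mul, one_mul, sub_eq_zero] at z2
  calc q' = q * s * q' := z2
    _ = q * s * (q' * (s * q)) := by rw [← z1]
    _ = q * ((s * q' * s) * q) := by simp only [mul_assoc]
    _ = q := by rw [h'.sqs, ← mul_assoc, h.qsq]

theorem Geo.nil_of_fix (hs : Root G d s) (ht : Root G d t) (hfix : expU s ∈ stab G t) :
    IsNilpotent (t * s) := by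
  by_contra hn
  obtain ⟨q, ho, hsame, -⟩ := hG.exists_exact hs ht hn
  have hp := hG.pair ho
  rw [← stab_eq_of_same hsame] at hfix
  have hz : expU s ∈ uGrp G hp.ss := expU_mem_uGrp hs.sq hs.fam (g_le_u hs.sq (cls_le_g hs.mem_cls))
  have ho' : Opp G d s (conjOp (expU s) q) :=
    ⟨hs, ho.right.conj hz.1, by
      have := congrArg (conjOp (expU s)) ho.sqs
      rwa [conjOp_mul, conjOp_mul, uGrp_fix hz] at this,
      by
      have := congrArg (conjOp (expU s)) ho.qsq
      rwa [conjOp_mul, conjOp_mul, uGrp_fix hz] at this⟩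
  have h1 : expU s = 1 := move_unique hG.hp5 hp hz (hG.opp_unique ho ho' hfix.2)
  exact hs.ne_zero hG.minRank (by rw [← op_expU hs.sq, h1, op_eq_zero])

theorem Geo.commute_of_fix (hs : Root G d s) (ht : Root G d t) (hfix : expU s ∈ stab G t) :
    s * t = t * s := by
  have hn := hG.nil_of_fix hs ht hfix
  obtain ⟨-, hsts, -⟩ := hG.unip' hs ht hn
  by_contra hne
  rw [← sub_eq_zero] at hne
  have hgG := expU_mem hs.fam hs.sq
  have hc : conjOp (expU s) t = t + (s * t - t * s) := by
    rw [conjOp_one_add hs.sq (c := 1) (by rw [one_smul]; exact expU_val hs.sq), one_smul, hsts, smul_zero,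
      sub_zero]
  have hr := ht.conj hgG
  have h1 := Cls.add ht.sq (cls_of_same hfix.2 hr.sq hr.fam) (Cls.smul ht.mem_cls (-1 : ZMod p))
  rw [hc, neg_one_smul, add_neg_cancel_comm] at h1
  exact (comm_cls hG.minRank (two_ne hG.hp5) (card_ne_three hG.hp5) hs ht hn hne hs.mem_cls h1).2
    (hs.ne_zero hG.minRank) hne (by
      linear_combination (norm := noncomm_ring) hs.sq * t + t * hs.sq - hsts - hsts)

/-! ### Linked roots -/

theorem Geo.linked_same (hs : Root G d s) (ht : Root G d t) (h : Same s t) : Linked G d s t := by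
  obtain ⟨q, hq⟩ := hG.opp s hs
  have hn := hq.nonnil hG.minRank
  exact .head ⟨hs, hq.right, hn⟩ (.single ⟨hq.right, ht, fun e =>
    hn (isNilpotent_swap (hG.nil_of_same hq.right ht hq.right hs (.refl q) h.symm e))⟩)

theorem Geo.linked_comm_left (hs : Root G d s) (ht : Root G d t) (hnil : IsNilpotent (t * s))
    (hne : s * t - t * s ≠ 0) : Linked G d s (s * t - t * s) := by
  have h2 := two_ne (p := p) hG.hp5
  have hP := commPair hG.minRank h2 hs ht hnil hne
  set x := s * t - t * s with hx
  obtain ⟨q, hq⟩ := hG.opp x hP.root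
  have hqx : Linked G d x q := .single ⟨hP.root, hq.right, hq.nonnil hG.minRank⟩
  by_cases hqs : q * s * q = 0
  · have hgG := expU_mem ht.fam ht.sq
    obtain ⟨h1, -, -⟩ := hG.unip' hs ht hnil
    have hcs : conjOp (expU t) s = s - x := by
      rw [conjOp_one_add ht.sq (c := 1) (by rw [one_smul]; exact expU_val ht.sq), one_smul, h1, smul_zero,
        sub_zero, hx]
      abel
    have hcx : conjOp (expU t) x = x := by
      rw [conjOp_one_add ht.sq (c := 1) (by rw [one_smul]; exact expU_val ht.sq), hP.t_mem.1, hP.t_mem.2.1,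
        zero_mul]
      simp
    have hu := hs.conj hgG
    have hn : ¬ IsNilpotent (conjOp (expU t) s * q) := fun e => by
      obtain ⟨-, h3, -⟩ := hG.unip' hq.right hu e
      rw [hcs, mul_sub, sub_mul, hqs, hq.qsq, zero_sub, neg_eq_zero] at h3
      exact hq.right.ne_zero hG.minRank h3
    have hl : Linked G d x (conjOp (expU t) s) := hqx.trans (.single ⟨hq.right, hu, hn⟩)
    have hl' := Linked.conj (G.inv_mem hgG) hl
    rw [conjOp_comp, inv_mul_cancel, conjOp_one'] at hl'
    have hxx : conjOp (expU t)⁻¹ x = x := by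
      conv_lhs => rw [← hcx]
      rw [conjOp_comp, inv_mul_cancel, conjOp_one']
    rw [hxx] at hl'
    exact Linked.symm hl'
  · have hn : ¬ IsNilpotent (s * q) := fun e => hqs (hG.unip' hq.right hs e).2.1
    exact Linked.symm (hqx.trans (.single ⟨hq.right, hs, hn⟩))

theorem Geo.comm_of_not_linked (hs : Root G d s) (ht : Root G d t) (h : ¬ Linked G d s t) :
    IsNilpotent (t * s) ∧ s * t = t * s := by
  have hnil : IsNilpotent (t * s) := by
    by_contra hn
    exact h (.single ⟨hs, ht, hn⟩)
  refine ⟨hnil, sub_eq_zero.1 ?_⟩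
  by_contra hne
  refine h ?_
  have h2 := two_ne (p := p) hG.hp5
  have hne' : t * s - s * t ≠ 0 := fun e => hne (by rw [← neg_sub, e, neg_zero])
  have hP := commPair hG.minRank h2 hs ht hnil hne
  have hP' := commPair hG.minRank h2 ht hs (isNilpotent_swap hnil) hne'
  refine ((hG.linked_comm_left hs ht hnil hne).trans (hG.linked_same hP.root hP'.root ?_)).trans
    (hG.linked_comm_left ht hs (isNilpotent_swap hnil) hne').symm
  rw [show t * s - s * t = (-1 : ZMod p) • (s * t - t * s) by rw [neg_one_smul, neg_sub]]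
  exact ⟨LinearMap.range_smul _ _ (neg_ne_zero.2 one_ne_zero),
    LinearMap.ker_smul _ _ (neg_ne_zero.2 one_ne_zero)⟩

/-- An operator commuting with an opposite pair commutes with the torus. -/
theorem Geo.comm_tor (hp : Pair G s q) {x : EV} (h1 : x * s = s * x) (h2 : x * q = q * x) :
    x * (tor hp : EV) = (tor hp : EV) * x := by
  have e : Commute x (s * q) := (show Commute x s from h1).mul_right h2
  have r : Commute x (q * s) := (show Commute x q from h2).mul_right h1
  rw [tor_val hG.hp5, ff]
  exact (((((Commute.one_right x).sub_right e).sub_right r).add_right (e.smul_right _)).add_right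
    (r.smul_right _)).eq

theorem conj_uGrp {g z : GLV} (hg : g ∈ G) {hss : s * s = 0} {htt : conjOp g s * conjOp g s = 0}
    (hz : z ∈ uGrp G hss) : g * z * g⁻¹ ∈ uGrp G htt := by
  refine ⟨G.mul_mem (G.mul_mem hg hz.1) (G.inv_mem hg), ?_⟩
  rw [op_conj_val]
  obtain ⟨h1, h2, h3⟩ := hz.2
  refine ⟨by rw [← conjOp_mul, h1, conjOp_zero], by rw [← conjOp_mul, h2, conjOp_zero], fun m hm => ?_⟩
  rw [range_conjOp, conjOp, Module.End.mul_apply, Module.End.mul_apply]
  refine Submodule.mem_map_of_mem (h3 _ ?_)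
  have := congrArg ((g⁻¹ : GLV) : EV) hm
  rwa [conjOp, Module.End.mul_apply, Module.End.mul_apply, inv_apply_apply, map_zero] at this

/-- A root outside the component of `s` commutes with `uGrp`. -/
theorem Geo.comm_uGrp_of_not_linked [Finite GLV] (ho : Opp G d s q) (hw : Root G d t)
    (h : ¬ Linked G d s t) {z : GLV} (hz : z ∈ uGrp G ho.left.sq) : expU t * z = z * expU t := by
  have hp := hG.pair ho
  obtain ⟨y, hy, rfl⟩ := exists_comm_eq hG.hp5 hp hz
  have hq : ∀ {u}, Root G d u → Linked G d s u → Commute t u := fun {u} hu hl =>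
    ((hG.comm_of_not_linked hu hw fun h' => h (hl.trans h')).2).symm
  have hts : Commute t s := hq ho.left .refl
  have htq : Commute t q := hq ho.right (.single ⟨ho.left, ho.right, ho.nonnil hG.minRank⟩)
  have hl2 : Linked G d s (conjOp y q) := by
    have := Linked.conj hy.1 (Relation.ReflTransGen.single (r := Partner G d) ⟨ho.left, ho.right, ho.nonnil hG.minRank⟩ :
      Linked G d s q)
    rwa [uGrp_fix hy] at this
  have htq' : Commute t (conjOp y q) := hq (ho.right.conj hy.1) hl2
  have e1 : Commute t (tor hp : EV) := hG.comm_tor hp hts htq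
  have hp' := hp.conj (G.mem_normalizer_iff.2 fun h => ?_) (g := y)
  · have e2 : Commute t (tor hp' : EV) := hG.comm_tor hp' (by rw [uGrp_fix hy]; exact hts) htq'
    have e3 : tor hp' = y * tor hp * y⁻¹ := by
      refine Units.ext ?_
      rw [Units.val_mul, Units.val_mul, tor_val hG.hp5, tor_val hG.hp5]
      show _ = conjOp y _
      simp only [ff, conjOp_add, conjOp_sub, conjOp_smul, conjOp_mul, conjOp_one]
    rw [e3] at e2
    have c1 : expU t * tor hp = tor hp * expU t := Units.ext (by
      rw [Units.val_mul, Units.val_mul, expU_val hw.sq, add_mul, mul_add, one_mul, mul_one, e1.eq])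
    have c2 : expU t * (y * tor hp * y⁻¹) = (y * tor hp * y⁻¹) * expU t := Units.ext (by
      rw [Units.val_mul, Units.val_mul _ (expU t), expU_val hw.sq, add_mul, mul_add, one_mul, mul_one, e2.eq])
    exact ((show Commute (expU t) _ from c2).mul_right (Commute.inv_right c1)).eq
  · exact ⟨fun hh => G.mul_mem (G.mul_mem hy.1 hh) (G.inv_mem hy.1), fun hh => by
      simpa [mul_assoc] using G.mul_mem (G.mul_mem (G.inv_mem hy.1) hh) hy.1⟩

end CfsgLib.Flavell.KL
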