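import Cfsg.Agent.Lib.Flavell.KL.Systems
import Cfsg.Agent.Lib.PLocal.ZJCoprime.Tools

/-!
Owner: helper26 (S1930). A quadratic element of an invariant `p`-group that is normalised by the fixed points of a
coprime operator group lies in the `p`-core.
-/

set_option autoImplicit false
set_option linter.unusedSectionVars false

namespace CfsgLib.Flavell.KL

open Cfsg CfsgLib.QuadPair CfsgLib.PLocal.ZJCoprime Subgroup Matrix
open scoped Pointwise

variable {p : ℕ} [Fact p.Prime] {V : Type} [AddCommGroup V] [Module (ZMod p) V] [FiniteDimensional (ZMod p) V]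

local notation "GLV" => LinearMap.GeneralLinearGroup (ZMod p) V
local notation "EV" => Module.End (ZMod p) V

/-- An operator group irreducible with `H` leaves `H` without normal `p`-subgroups. -/
theorem noCore_of_irr {H A : Subgroup GLV} (hAn : A ≤ normalizer (H : Set GLV))
    (hirr : ∀ W : Submodule (ZMod p) V, (∀ g ∈ H ⊔ A, ∀ w ∈ W, (g : EV) w ∈ W) → W = ⊥ ∨ W = ⊤) :
    NoCore H := by
  have := finite_gl (p := p) (V := V)
  set O := (Cfsg.pCore p H).map H.subtype with hO
  have hOn : H ⊔ A ≤ normalizer (O : Set _) :=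
    sup_le (le_normalizer.trans (normalizer_le_pCore_map (p := p) H)) (hAn.trans (normalizer_le_pCore_map (p := p) H))
  have hOp : IsPGroup p O := (Components.pCore_isPGroup (G := ↥H) (p := p)).map _
  let W : Submodule (ZMod p) V := ⨅ g : O, LinearMap.ker (((g : GLV) : EV) - 1)
  have hWmem : ∀ v, v ∈ W ↔ ∀ g ∈ O, (g : EV) v = v := fun v => by simp [W, sub_eq_zero]
  have hinv : ∀ y ∈ H ⊔ A, ∀ w ∈ W, (y : EV) w ∈ W := by
    intro y hy w hw
    rw [hWmem] at hw ⊢
    intro g hg
    have := hw _ ((mem_normalizer_iff''.1 (hOn hy) g).1 hg)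
    rw [Units.val_mul, Units.val_mul, Module.End.mul_apply, Module.End.mul_apply] at this
    conv_rhs => rw [← this]
    rw [apply_inv_apply]
  intro N hN hNn hNp
  rw [eq_bot_iff]
  intro g hg
  rw [mem_bot]
  refine Units.ext (LinearMap.ext fun v => ?_)
  have hgO : g ∈ O := le_pCore_map hN hNn hNp hg
  rcases hirr W hinv with hW | hW
  · rcases subsingleton_or_nontrivial V with hV | hV
    · exact Subsingleton.elim _ _
    exfalso
    obtain ⟨b, -, hb0, hb⟩ := exists_fixed hOp (Y := (⊤ : Submodule (ZMod p) V)) top_ne_bot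
      (fun _ _ _ _ => trivial)
    have : b ∈ W := (hWmem b).2 hb
    rw [hW, Submodule.mem_bot] at this
    exact hb0 this
  · exact (hWmem v).1 (hW ▸ Submodule.mem_top) g hgO

theorem pow_self_of_chain {W : Submodule (ZMod p) V} {g : GLV} (hfix : ∀ w ∈ W, (g : EV) w = w)
    (hrange : ∀ v, (g : EV) v - v ∈ W) : g ^ p = 1 := by
  have hee : op g * op g = 0 := LinearMap.ext fun v => by
    show (g : EV) (op g v) - op g v = 0
    exact sub_eq_zero.2 (hfix _ (hrange v))
  rw [← expU_op hee, expU_pow_p hee]

/-- The invariant Sylow subgroups contain the invariant `p`-subgroups normalised by the fixed points. -/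
theorem le_invariant_maxP [Finite GLV] {H A Q S : Subgroup GLV} (hAn : A ≤ normalizer (H : Set GLV))
    (hcop : (Nat.card A).Coprime (Nat.card H)) (hQH : Q ≤ H) (hQp : IsPGroup p Q)
    (hAQ : A ≤ normalizer (Q : Set GLV)) (hCQ : H ⊓ centralizer (A : Set GLV) ≤ normalizer (Q : Set GLV))
    (hS : MaxP H S) (hAS : A ≤ normalizer (S : Set GLV)) : Q ≤ S := by
  obtain ⟨P, hQP, hP⟩ := CfsgLib.Core.exists_invariant_sylow_ge hAn hcop (solvable_or hcop) hQH hQp hAQ
  obtain ⟨P', rfl⟩ := hS.exists_sylow
  obtain ⟨c, hc, e⟩ := CfsgLib.Core.invariant_sylow_conj hAn hcop (solvable_or hcop) P P' hP hAS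
  rw [← e, ← CfsgLib.Core.sylow_map_conj_smul]
  have := pointwise_smul_le_pointwise_smul_iff (a := MulAut.conj (c : GLV)).2 hQP
  rwa [CfsgLib.Core.mem_normalizer_iff_conj_smul_eq.1 (hCQ ⟨c.2, hc⟩)] at this

variable {H : Subgroup (LinearMap.GeneralLinearGroup (ZMod p) V)} {d : ℕ}

/-- The elements fixing every component. -/
def compFix (H : Subgroup GLV) (d : ℕ) : Subgroup GLV where
  carrier := {g | g ∈ H ∧ ∀ t, Root H d t → Linked H d t (conjOp g t)}
  one_mem' := ⟨H.one_mem, fun t _ => by rw [conjOp_id]⟩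
  mul_mem' := fun {a b} ha hb => ⟨H.mul_mem ha.1 hb.1, fun t ht => by
    rw [← conjOp_conjOp]; exact (hb.2 t ht).trans (ha.2 _ (ht.conj hb.1))⟩
  inv_mem' := fun {a} ha => ⟨H.inv_mem ha.1, fun t ht => by
    have := Linked.symm (ha.2 _ (ht.conj (H.inv_mem ha.1)))
    rwa [conjOp_conjOp, mul_inv_cancel, conjOp_id] at this⟩

theorem mem_compFix {g : GLV} : g ∈ compFix H d ↔ g ∈ H ∧ ∀ t, Root H d t → Linked H d t (conjOp g t) :=
  Iff.rfl

theorem Geo.normalizer_le_compFix (hG : Geo H d) :
    normalizer (H : Set GLV) ≤ normalizer (compFix H d : Set GLV) := by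
  have key : ∀ a ∈ normalizer (H : Set GLV), ∀ g ∈ compFix H d, a * g * a⁻¹ ∈ compFix H d := by
    intro a ha g hg
    refine ⟨(mem_normalizer_iff.1 ha g).1 hg.1, fun t ht => ?_⟩
    have := hG.linked_conj ha (hg.2 _ (root_conj_normalizer (inv_mem ha) ht))
    rwa [conjOp_conjOp, conjOp_conjOp, conjOp_conjOp, mul_inv_cancel, conjOp_id] at this
  intro a ha
  rw [mem_normalizer_iff]
  refine fun g => ⟨key a ha g, fun hg => ?_⟩
  simpa [mul_assoc] using key a⁻¹ (inv_mem ha) _ hg

/-- A quadratic element fixes every component. -/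
theorem Geo.quadratic_mem_compFix (hG : Geo H d) {x : GLV} (hxH : x ∈ H) (hx2 : op x * op x = 0) :
    x ∈ compFix H d := by
  refine ⟨hxH, fun s hs => ?_⟩
  by_contra hn
  obtain ⟨q, hq⟩ := hG.opp s hs
  have hsq : Linked H d s q := .single ⟨hq.left, hq.right, hq.nonnil hG.minRank⟩
  have hp3 : ¬ p ∣ 1 ∧ ¬ p ∣ 2 ∧ ¬ p ∣ 3 := by
    have := hG.hp5
    refine ⟨?_, ?_, ?_⟩ <;> intro h <;> have := Nat.le_of_dvd (by omega) h <;> omega
  have hlk : ∀ i : ℕ, ¬ p ∣ i → ¬ Linked H d s (conjOp (x ^ i) s) := by
    intro i hi hl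
    have hxp : x ^ p = 1 := by rw [← expU_op hx2, expU_pow_p hx2]
    obtain ⟨j, hj⟩ : ∃ j : ℕ, (x ^ i) ^ j = x := by
      have hc : i.gcd (orderOf x) = 1 :=
        ((Fact.out : p.Prime).coprime_iff_not_dvd.2 hi).symm.coprime_dvd_right (orderOf_dvd_of_pow_eq_one hxp)
      have := finite_gl (p := p) (V := V)
      exact mem_powers_iff_mem_zpowers.2 (mem_zpowers_pow_iff.2 hc)
    refine hn (hj ▸ ?_)
    clear hj
    induction j with
    | zero => rw [pow_zero, conjOp_id]
    | succ j ih =>
      rw [pow_succ, ← conjOp_conjOp]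
      exact ih.trans (Linked.conj (H.pow_mem (H.pow_mem hxH i) j) hl)
  have hcm : ∀ i : ℕ, ¬ p ∣ i → conjOp (x ^ i) s * q = q * conjOp (x ^ i) s := fun i hi =>
    ((hG.comm_of_not_linked hq.right (hs.conj (H.pow_mem hxH i)) fun e => hlk i hi (hsq.trans e)).2).symm
  have hinv : ((x⁻¹ : GLV) : EV) = 1 - op x := Units.inv_eq_of_mul_eq_one_right (by
    rw [val_eq x]; linear_combination (norm := noncomm_ring) -hx2)
  have hstep : ∀ y : EV, conjOp x y = y + op x * y - y * op x - op x * y * op x := fun y => by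
    rw [conjOp, hinv, val_eq x]; noncomm_ring
  have h1 := hcm 1 hp3.1
  have h2 := hcm 2 hp3.2.1
  have h3 := hcm 3 hp3.2.2
  rw [pow_one, hstep] at h1
  rw [pow_two, ← conjOp_conjOp, hstep, hstep] at h2
  rw [show x ^ 3 = x * (x * x) by rw [pow_succ', pow_two], ← conjOp_conjOp, ← conjOp_conjOp, hstep, hstep,
    hstep] at h3
  set ξ := op x
  have z : ∀ a, ξ * (ξ * a) = 0 := fun a => by rw [← mul_assoc, hx2, zero_mul]
  simp only [mul_add, add_mul, mul_sub, sub_mul, mul_assoc, z, hx2, mul_zero, zero_mul, sub_zero, zero_sub,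
    mul_neg, neg_mul, neg_zero, add_zero, zero_add] at h1 h2 h3
  have hc : s * q = q * s := by
    linear_combination (norm := noncomm_ring) h1 + h1 + h1 - h2 - h2 - h2 + h3
  apply hs.ne_zero hG.minRank
  rw [← hq.sqs, hc, mul_assoc, hs.sq, mul_zero]

set_option maxHeartbeats 1000000 in
/-- A quadratic element of an invariant `p`-group normalised by the fixed points lies in the `p`-core. -/
theorem quadratic_mem_pCore (hp5 : 5 ≤ p) : ∀ (n : ℕ) {V : Type} [AddCommGroup V] [Module (ZMod p) V]
    [FiniteDimensional (ZMod p) V] (H A Q : Subgroup (LinearMap.GeneralLinearGroup (ZMod p) V))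
    (x : LinearMap.GeneralLinearGroup (ZMod p) V),
    Nat.card H + Module.finrank (ZMod p) V < n →
    A ≤ normalizer (H : Set (LinearMap.GeneralLinearGroup (ZMod p) V)) →
    (Nat.card A).Coprime (Nat.card H) → Q ≤ H → IsPGroup p Q →
    A ≤ normalizer (Q : Set (LinearMap.GeneralLinearGroup (ZMod p) V)) →
    H ⊓ centralizer (A : Set (LinearMap.GeneralLinearGroup (ZMod p) V)) ≤
      normalizer (Q : Set (LinearMap.GeneralLinearGroup (ZMod p) V)) →
    x ∈ Q → op x * op x = 0 → x ∈ (Cfsg.pCore p H).map H.subtype := by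
  intro n
  induction n with
  | zero => intro V _ _ _ H A Q x h; omega
  | succ n ih =>
    intro V _ _ _ H A Q x hn hAn hcop hQH hQp hAQ hCQ hxQ hx2
    classical
    haveI := finite_gl (p := p) (V := V)
    haveI := finite_end (p := p) (V := V)
    have hxH : x ∈ H := hQH hxQ
    -- the same statement in a proper invariant subgroup
    have sub : ∀ K < H, A ≤ normalizer (K : Set (LinearMap.GeneralLinearGroup (ZMod p) V)) → x ∈ K →
        x ∈ (Cfsg.pCore p K).map K.subtype := by
      intro K hK hAK hxK
      refine ih K A (Q ⊓ K) x ?_ hAK (hcop.coprime_dvd_right (card_dvd_of_le hK.le)) inf_le_right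
        (hQp.to_le inf_le_left) (le_trans (le_inf hAQ hAK) inf_normalizer_le_normalizer_inf) ?_ ⟨hxQ, hxK⟩ hx2
      · have : Nat.card K < Nat.card H :=
          Set.Finite.card_lt_card (Set.toFinite _) (SetLike.coe_ssubset_coe.2 hK)
        omega
      · exact le_trans (le_inf ((inf_le_inf_right _ hK.le).trans hCQ) (inf_le_left.trans le_normalizer))
          inf_normalizer_le_normalizer_inf
    by_cases hW : ∃ W : Submodule (ZMod p) V, W ≠ ⊥ ∧ W ≠ ⊤ ∧
        ∀ g ∈ H ⊔ A, ∀ w ∈ W, (g : Module.End (ZMod p) V) w ∈ W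
    · obtain ⟨W, hW0, hW1, hinv⟩ := hW
      have hle : H ⊔ A ≤ stabSub W := fun g hg => ⟨hinv g hg, hinv g⁻¹ (inv_mem hg)⟩
      have hH : H ≤ stabSub W := le_sup_left.trans hle
      have hA : A ≤ stabSub W := le_sup_right.trans hle
      set H0 := H.subgroupOf (stabSub W) with hH0
      set A0 := A.subgroupOf (stabSub W) with hA0
      set Q0 := Q.subgroupOf (stabSub W) with hQ0
      let x0 : stabSub W := ⟨x, hH hxH⟩
      haveI := finite_gl (p := p) (V := W)
      haveI := finite_gl (p := p) (V := V ⧸ W)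
      have hnorm : ∀ {A' B' : Subgroup (LinearMap.GeneralLinearGroup (ZMod p) V)},
          A' ≤ normalizer (B' : Set (LinearMap.GeneralLinearGroup (ZMod p) V)) →
          A'.subgroupOf (stabSub W) ≤ normalizer (B'.subgroupOf (stabSub W) : Set (stabSub W)) :=
        fun {A' B'} h a ha => mem_normalizer_iff.2 fun y => mem_normalizer_iff.1 (h ha) y
      have hcop0 : (Nat.card A0).Coprime (Nat.card H0) := by
        rwa [hA0, hH0, Nat.card_congr (subgroupOfEquivOfLe hA).toEquiv,
          Nat.card_congr (subgroupOfEquivOfLe hH).toEquiv]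
      have hCQ0 : H0 ⊓ centralizer (A0 : Set (stabSub W)) ≤ normalizer (Q0 : Set (stabSub W)) := by
        intro g hg
        refine hnorm hCQ (mem_subgroupOf.2 ⟨hg.1, mem_centralizer_iff.2 fun a ha => ?_⟩)
        exact congrArg Subtype.val (mem_centralizer_iff.1 hg.2 ⟨a, hA ha⟩ ha)
      have go : ∀ {W' : Type} [AddCommGroup W'] [Module (ZMod p) W'] [FiniteDimensional (ZMod p) W']
          (r : stabSub W →* LinearMap.GeneralLinearGroup (ZMod p) W'),
          Module.finrank (ZMod p) W' < Module.finrank (ZMod p) V → op (r x0) * op (r x0) = 0 →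
          r x0 ∈ (Cfsg.pCore p (H0.map r)).map (H0.map r).subtype := by
        intro W' _ _ _ r hlt hr2
        haveI := finite_gl (p := p) (V := W')
        refine ih (H0.map r) (A0.map r) (Q0.map r) (r x0) ?_ ((map_mono (hnorm hAn)).trans (le_normalizer_map r))
          ((hcop0.coprime_dvd_left (A0.card_map_dvd r)).coprime_dvd_right (H0.card_map_dvd r))
          (map_mono (fun _ h => hQH h)) ((hQp.comap_subtype).map r)
          ((map_mono (hnorm hAQ)).trans (le_normalizer_map r))
          ((map_fixed r (hnorm hAn) hcop0).trans ((map_mono hCQ0).trans (le_normalizer_map r)))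
          (mem_map_of_mem r (show x0 ∈ Q0 from hxQ)) hr2
        have h1 := Nat.le_of_dvd Nat.card_pos (H0.card_map_dvd r)
        have h2 : Nat.card H0 = Nat.card H := Nat.card_congr (subgroupOfEquivOfLe hH).toEquiv
        omega
      have hfW : Module.finrank (ZMod p) W < Module.finrank (ZMod p) V := Submodule.finrank_lt hW1
      have hfQ : Module.finrank (ZMod p) (V ⧸ W) < Module.finrank (ZMod p) V := by
        have := W.finrank_quotient_add_finrank
        have : 0 < Module.finrank (ZMod p) W := by
          rw [Nat.pos_iff_ne_zero]; exact fun e => hW0 (Submodule.finrank_eq_zero.1 e)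
        omega
      have k1 := go (subRes W) hfW (LinearMap.ext fun w => Subtype.ext (by
        show op x (op x w) = 0
        rw [← Module.End.mul_apply, hx2]; rfl))
      have k2 := go (quotRes W) hfQ (Submodule.linearMap_qext _ (LinearMap.ext fun v => by
        show Submodule.Quotient.mk (op x (op x v)) = 0
        rw [← Module.End.mul_apply, hx2]; rfl))
      set O1 := (Cfsg.pCore p (H0.map (subRes W))).map (H0.map (subRes W)).subtype with hO1
      set O2 := (Cfsg.pCore p (H0.map (quotRes W))).map (H0.map (quotRes W)).subtype with hO2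
      set D0 := H0 ⊓ O1.comap (subRes W) ⊓ O2.comap (quotRes W) with hD0
      refine le_pCore_map (M := D0.map (stabSub W).subtype) ?_ ?_ ?_ ⟨x0, ⟨⟨hxH, k1⟩, k2⟩, rfl⟩
      · rintro _ ⟨y, ⟨⟨hy, -⟩, -⟩, rfl⟩; exact hy
      · have hn0 : ∀ {W' : Type} [AddCommGroup W'] [Module (ZMod p) W']
            (r : stabSub W →* LinearMap.GeneralLinearGroup (ZMod p) W'),
            H0 ≤ normalizer (((Cfsg.pCore p (H0.map r)).map (H0.map r).subtype).comap r : Set (stabSub W)) :=
          fun r => (map_le_iff_le_comap.1 (le_normalizer.trans (normalizer_le_pCore_map (p := p) _))).trans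
            (le_normalizer_comap r)
        have hDn : H0 ≤ normalizer (D0 : Set (stabSub W)) :=
          le_trans (le_inf (le_trans (le_inf le_normalizer (hn0 _)) inf_normalizer_le_normalizer_inf) (hn0 _))
            inf_normalizer_le_normalizer_inf
        intro h hh
        exact le_normalizer_map _ (mem_map_of_mem (stabSub W).subtype (hDn (show (⟨h, hH hh⟩ : stabSub W) ∈ H0 from hh)))
      · rintro ⟨_, y, ⟨⟨-, hy1⟩, hy2⟩, rfl⟩
        obtain ⟨a, ha⟩ := ((Components.pCore_isPGroup (G := ↥(H0.map (subRes W))) (p := p)).map _) ⟨_, hy1⟩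
        obtain ⟨b, hb⟩ := ((Components.pCore_isPGroup (G := ↥(H0.map (quotRes W))) (p := p)).map _) ⟨_, hy2⟩
        replace ha := congrArg Subtype.val ha
        replace hb := congrArg Subtype.val hb
        simp only [SubgroupClass.coe_pow, OneMemClass.coe_one] at ha hb
        have e1 : subRes W (y ^ p ^ (a + b)) = 1 := by rw [map_pow, pow_add, pow_mul, ha, one_pow]
        have e2 : quotRes W (y ^ p ^ (a + b)) = 1 := by
          rw [map_pow, pow_add, mul_comm, pow_mul, hb, one_pow]
        refine ⟨a + b + 1, Subtype.ext ?_⟩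
        rw [SubgroupClass.coe_pow, OneMemClass.coe_one, pow_succ, pow_mul]
        refine pow_self_of_chain (W := W) (fun w hw => ?_) fun v => ?_
        · exact congrArg (fun u : LinearMap.GeneralLinearGroup (ZMod p) W =>
            (((u : Module.End (ZMod p) W) ⟨w, hw⟩ : W) : V)) e1
        · rw [← Submodule.Quotient.eq]
          exact congrArg (fun u : LinearMap.GeneralLinearGroup (ZMod p) (V ⧸ W) =>
            (u : Module.End (ZMod p) (V ⧸ W)) (Submodule.Quotient.mk v)) e2
    · -- irreducible
      have hcore : NoCore H := noCore_of_irr hAn fun W hinv => by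
        by_contra hcon
        rw [not_or] at hcon
        exact hW ⟨W, hcon.1, hcon.2, hinv⟩
      suffices h : x = 1 by rw [h]; exact one_mem _
      by_contra hx1
      have normal_triv : ∀ K : Subgroup (LinearMap.GeneralLinearGroup (ZMod p) V), K < H →
          H ≤ normalizer (K : Set _) → A ≤ normalizer (K : Set _) → x ∈ K → False := by
        intro K hK hHK hAK hxK
        have h := sub K hK hAK hxK
        rw [hcore _ ((map_subtype_le _).trans hK.le) (hHK.trans (normalizer_le_pCore_map (p := p) K))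
          ((Components.pCore_isPGroup (G := ↥K) (p := p)).map _), mem_bot] at h
        exact hx1 h
      have hξ0 : op x ≠ 0 := fun e => hx1 (op_eq_zero.1 e)
      have hexd : ∃ d, ∃ y : Module.End (ZMod p) V, y * y = 0 ∧ Fam H y ∧ y ≠ 0 ∧ rk y = d :=
        ⟨_, op x, hx2, fam_of_expU_mem hx2 (by rw [expU_op hx2]; exact hxH), hξ0, rfl⟩
      obtain ⟨y, hy1, hy2, hy3, hy4⟩ := Nat.find_spec hexd
      set d := Nat.find hexd with hd
      have hm : MinRank H d := by
        refine ⟨?_, fun z h1 h2 h3 => Nat.find_min' hexd ⟨z, h1, h2, h3, rfl⟩⟩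
        rw [← hy4, Nat.pos_iff_ne_zero]
        intro e
        exact hy3 (LinearMap.range_eq_bot.1 (Submodule.finrank_eq_zero.1 e))
      have hG : Geo H d := ⟨hp5, hm, fun s hs => exists_opp_of_root hp5 hcore hm hs, hcore⟩
      have hy : Root H d y := ⟨hy1, hy2, hy4⟩
      -- every component is fixed
      have hc : ∀ g ∈ H, ∀ s, Root H d s → Linked H d s (conjOp g s) := by
        by_contra hcon
        refine normal_triv (compFix H d) (lt_of_le_of_ne (fun g hg => hg.1) fun e => hcon fun g hg s hs => ?_)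
          (le_normalizer.trans hG.normalizer_le_compFix) (hAn.trans hG.normalizer_le_compFix)
          (hG.quadratic_mem_compFix hxH hx2)
        rw [← e] at hg
        exact hg.2 s hs
      obtain ⟨P, hP⟩ := CfsgLib.Core.exists_invariant_sylow hAn hcop (solvable_or hcop) p
      set S := (P : Subgroup H).map H.subtype
      have hS : MaxP H S := MaxP.of_sylow P
      obtain ⟨S1, hS1, hAS1, ho⟩ := hG.exists_invariant_oppSys hc hAn hcop hS hP
      set L := sysStab H d S ⊓ sysStab H d S1 with hL
      have hLH : L < H := by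
        refine lt_of_le_of_ne (inf_le_left.trans inf_le_left) fun e => ?_
        obtain ⟨t, ht, -⟩ := hG.exists_fix hc hS hy
        obtain ⟨q, hq⟩ := hG.opp t ht.1
        have hqt : expU q ∈ stab H t := sysStab_le_stab ht
          ((e.ge (expU_mem hq.right.fam hq.right.sq)).1)
        exact hq.nonnil hm (isNilpotent_swap (hG.nil_of_fix hq.right ht.1 hqt))
      have hAsys : ∀ {T : Subgroup (LinearMap.GeneralLinearGroup (ZMod p) V)},
          A ≤ normalizer (T : Set _) → A ≤ normalizer (sysStab H d T : Set _) := fun {T} hT a ha =>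
        CfsgLib.Core.mem_normalizer_iff_conj_smul_eq.2 (by
          rw [sysStab_conj (hAn ha), CfsgLib.Core.mem_normalizer_iff_conj_smul_eq.1 (hT ha)])
      have hAL : A ≤ normalizer (L : Set _) :=
        le_trans (le_inf (hAsys hP) (hAsys hAS1)) inf_normalizer_le_normalizer_inf
      have hxL : x ∈ L := ⟨le_sysStab hS.le (le_invariant_maxP hAn hcop hQH hQp hAQ hCQ hS hP hxQ),
        le_sysStab hS1.le (le_invariant_maxP hAn hcop hQH hQp hAQ hCQ hS1 hAS1 hxQ)⟩
      set N0 := (Cfsg.pCore p L).map L.subtype with hN0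
      have hxN : x ∈ N0 := sub L hLH hAL hxL
      -- `x` commutes with every root
      have hall : ∀ w, Root H d w → x * expU w = expU w * x := by
        intro w hw
        obtain ⟨s, hs, hws⟩ := hG.exists_fix hc hS hw
        obtain ⟨s', hs', hss'⟩ := hG.exists_fix hc hS1 hs.1
        obtain ⟨q, hq, hsame, -⟩ := hG.exists_exact hs.1 hs'.1 (ho s hs s' hs' hss')
        have hsq : Linked H d s q := .single ⟨hq.left, hq.right, hq.nonnil hm⟩
        refine hG.core_linked hq hx2 ((Components.pCore_isPGroup (G := ↥L) (p := p)).map _) hxN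
          ((map_subtype_le _).trans (inf_le_left.trans (sysStab_le_stab hs))) ?_ ?_ hw hws.symm
        · rw [stab_eq_of_same hsame]
          exact (map_subtype_le _).trans (inf_le_right.trans (sysStab_le_stab hs'))
        · intro l hl hls hlq
          have hout : ∀ t, Root H d t → ¬ Linked H d s t →
              pairGrp H hq.left.sq hq.right.sq ≤ stab H t := by
            intro t ht hnl
            have hq' : Opp H d q s := ⟨hq.right, hq.left, hq.qsq, hq.sqs⟩
            refine sup_le (fun z hz => ⟨hz.1, ?_⟩) fun z hz => ⟨hz.1, ?_⟩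
            · rw [hG.commute_fix ht.sq (hG.comm_uGrp_of_not_linked hq ht hnl hz)]; exact .refl t
            · rw [hG.commute_fix ht.sq (hG.comm_uGrp_of_not_linked hq' ht (fun e => hnl (hsq.trans e)) hz)]
              exact .refl t
          refine le_normalizer.trans (normalizer_le_pCore_map (p := p) L) (show l ∈ L from ?_)
          rw [hL, mem_inf, mem_sysStab, mem_sysStab]
          refine ⟨⟨hls.1, fun t ht => ?_⟩, hls.1, fun t ht => ?_⟩
          · by_cases hst : Linked H d s t
            · rwa [stab_eq_of_same (hG.fix_unique hS hs ht hst)]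
            · exact hout t ht.1 hst hl
          · by_cases hst : Linked H d s t
            · rw [stab_eq_of_same (hG.fix_unique hS1 hs' ht (hss'.symm.trans hst)),
                ← stab_eq_of_same hsame]
              exact hlq
            · exact hout t ht.1 hst hl
      -- the centraliser of the roots
      have hRn : ∀ a ∈ normalizer (H : Set (LinearMap.GeneralLinearGroup (ZMod p) V)),
          ∀ g ∈ H ⊓ centralizer (rootElts H d), a * g * a⁻¹ ∈ H ⊓ centralizer (rootElts H d) := by
        intro a ha g hg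
        refine ⟨(mem_normalizer_iff.1 ha g).1 hg.1, mem_centralizer_iff.2 ?_⟩
        rintro _ ⟨t, ht, rfl⟩
        have e := mem_centralizer_iff.1 hg.2 _ ⟨_, root_conj_normalizer (inv_mem ha) ht, rfl⟩
        rw [expU_conj _ ht.sq, inv_inv] at e
        calc expU t * (a * g * a⁻¹) = a * ((a⁻¹ * expU t * a) * g) * a⁻¹ := by group
          _ = a * (g * (a⁻¹ * expU t * a)) * a⁻¹ := by rw [e]
          _ = _ := by group
      have hCn : normalizer (H : Set (LinearMap.GeneralLinearGroup (ZMod p) V)) ≤
          normalizer ((H ⊓ centralizer (rootElts H d) : Subgroup _) : Set _) := by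
        intro a ha
        rw [mem_normalizer_iff]
        refine fun g => ⟨hRn a ha g, fun hg => ?_⟩
        simpa [mul_assoc] using hRn a⁻¹ (inv_mem ha) _ hg
      refine normal_triv _ (lt_of_le_of_ne inf_le_left fun e => ?_) (le_normalizer.trans hCn) (hAn.trans hCn)
        ⟨hxH, mem_centralizer_iff.2 (by rintro _ ⟨t, ht, rfl⟩; exact (hall t ht).symm)⟩
      obtain ⟨q, hq⟩ := hG.opp y hy
      have h := mem_centralizer_iff.1 (e.ge (expU_mem hy.fam hy.sq)).2 _ ⟨q, hq.right, rfl⟩
      have h' := congrArg (fun g : LinearMap.GeneralLinearGroup (ZMod p) V => (g : Module.End (ZMod p) V)) h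
      simp only [Units.val_mul, expU_val hq.right.sq, expU_val hy.sq] at h'
      apply hy.ne_zero hm
      rw [← hq.sqs, show y * q = q * y by linear_combination (norm := noncomm_ring) -h', mul_assoc, hy.sq,
        mul_zero]

end CfsgLib.Flavell.KL
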