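import Cfsg.Agent.Lib.Flavell.KL.Core

/-!
Owner: helper26 (S1930). Maximal `p`-subgroups and their systems of fixed classes; two opposite systems
fixed by a coprime group of operators.
-/

set_option autoImplicit false
set_option linter.unusedSectionVars false

namespace CfsgLib.Flavell.KL

open Cfsg CfsgLib.QuadPair CfsgLib.PLocal.ZJCoprime Subgroup Matrix
open scoped Pointwise

variable {p : ℕ} [Fact p.Prime] {V : Type} [AddCommGroup V] [Module (ZMod p) V]

local notation "GLV" => LinearMap.GeneralLinearGroup (ZMod p) V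
local notation "EV" => Module.End (ZMod p) V

variable {G : Subgroup (LinearMap.GeneralLinearGroup (ZMod p) V)} {d : ℕ} {s t q : Module.End (ZMod p) V}

/-- A maximal `p`-subgroup of `G`. -/
structure MaxP (G S : Subgroup GLV) : Prop where
  le : S ≤ G
  isP : IsPGroup p S
  max : ∀ T ≤ G, IsPGroup p T → S ≤ T → T = S

theorem MaxP.of_sylow (P : Sylow p G) : MaxP G ((P : Subgroup G).map G.subtype) := by
  refine ⟨map_subtype_le _, P.isPGroup'.map _, fun T hT hTp hle => ?_⟩
  rw [← map_subgroupOf_eq_of_le hT]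
  congr 1
  refine P.is_maximal' (hTp.of_equiv (subgroupOfEquivOfLe hT).symm) fun x hx => ?_
  exact mem_subgroupOf.2 (hle (mem_map_of_mem _ hx))

theorem MaxP.exists_sylow [Finite GLV] {S : Subgroup GLV} (hS : MaxP G S) :
    ∃ P : Sylow p G, (P : Subgroup G).map G.subtype = S := by
  obtain ⟨P, hP⟩ := (hS.isP.of_equiv (subgroupOfEquivOfLe hS.le).symm).exists_le_sylow
  refine ⟨P, hS.max _ (map_subtype_le _) (P.isPGroup'.map _) ?_⟩
  rw [← map_subgroupOf_eq_of_le hS.le]
  exact map_mono hP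

theorem MaxP.exists_conj [Finite GLV] {S S' : Subgroup GLV} (hS : MaxP G S) (hS' : MaxP G S') :
    ∃ h ∈ G, S' = MulAut.conj h • S := by
  obtain ⟨P, rfl⟩ := hS.exists_sylow
  obtain ⟨P', rfl⟩ := hS'.exists_sylow
  obtain ⟨h, hh⟩ := MulAction.exists_smul_eq G P P'
  exact ⟨h, h.2, by rw [CfsgLib.Core.sylow_map_conj_smul, hh]⟩

theorem MaxP.conj {S : Subgroup GLV} (hS : MaxP G S) {g : GLV} (hg : g ∈ normalizer (G : Set GLV)) :
    MaxP G (MulAut.conj g • S) := by
  have hG : MulAut.conj g • G = G := CfsgLib.Core.mem_normalizer_iff_conj_smul_eq.1 hg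
  refine ⟨by rw [← hG]; exact pointwise_smul_le_pointwise_smul_iff.2 hS.le,
    hS.isP.of_equiv (equivSMul _ S), fun T hT hTp hle => ?_⟩
  rw [← inv_smul_eq_iff]
  refine hS.max _ ?_ (hTp.of_equiv (equivSMul _ T)) (subset_pointwise_smul_iff.2 (by rwa [inv_inv]))
  rw [pointwise_smul_subset_iff, inv_inv, hG]
  exact hT

theorem stab_conj {g : GLV} (hg : g ∈ normalizer (G : Set GLV)) :
    MulAut.conj g • stab G s = stab G (conjOp g s) := by
  ext h
  rw [CfsgLib.Core.mem_conj_smul_iff, mem_stab, mem_stab, ← mem_normalizer_iff''.1 hg h]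
  refine and_congr_right fun _ => ⟨fun e => ?_, fun e => ?_⟩
  · have := e.conj g
    rwa [conjOp_conjOp, show g * (g⁻¹ * h * g) = h * g by group, ← conjOp_conjOp] at this
  · have := e.conj g⁻¹
    rwa [conjOp_conjOp, inv_mul_cancel, conjOp_id, conjOp_conjOp, conjOp_conjOp] at this

/-- The roots of fixed classes. -/
def Fix (G : Subgroup GLV) (d : ℕ) (S : Subgroup GLV) : Set EV := {t | Root G d t ∧ S ≤ stab G t}

/-- The stabiliser in `G` of the fixed classes. -/
noncomputable def sysStab (G : Subgroup GLV) (d : ℕ) (S : Subgroup GLV) : Subgroup GLV :=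
  G ⊓ ⨅ t ∈ Fix G d S, stab G t

theorem le_sysStab {S : Subgroup GLV} (hS : S ≤ G) : S ≤ sysStab G d S :=
  le_inf hS (le_iInf₂ fun _ ht => ht.2)

theorem sysStab_le_stab {S : Subgroup GLV} (ht : t ∈ Fix G d S) : sysStab G d S ≤ stab G t :=
  inf_le_right.trans (iInf₂_le t ht)

theorem mem_sysStab {S : Subgroup GLV} {g : GLV} :
    g ∈ sysStab G d S ↔ g ∈ G ∧ ∀ t ∈ Fix G d S, g ∈ stab G t := by
  simp [sysStab]

theorem root_conj_normalizer {g : GLV} (hg : g ∈ normalizer (G : Set GLV)) {x : EV} (hx : Root G d x) :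
    Root G d (conjOp g x) := ⟨conjOp_sq hx.sq, fam_conj hg hx.fam, by rw [rk_conjOp, hx.rank]⟩

theorem fix_conj {S : Subgroup GLV} {g : GLV} (hg : g ∈ normalizer (G : Set GLV)) (ht : t ∈ Fix G d S) :
    conjOp g t ∈ Fix G d (MulAut.conj g • S) :=
  ⟨root_conj_normalizer hg ht.1, by rw [← stab_conj hg]; exact pointwise_smul_le_pointwise_smul_iff.2 ht.2⟩

theorem sysStab_conj {S : Subgroup GLV} {g : GLV} (hg : g ∈ normalizer (G : Set GLV)) :
    MulAut.conj g • sysStab G d S = sysStab G d (MulAut.conj g • S) := by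
  have key : ∀ {g : GLV} {S : Subgroup GLV}, g ∈ normalizer (G : Set GLV) →
      MulAut.conj g • sysStab G d S ≤ sysStab G d (MulAut.conj g • S) := by
    intro g S hg h hh
    rw [CfsgLib.Core.mem_conj_smul_iff, mem_sysStab] at hh
    refine mem_sysStab.2 ⟨(mem_normalizer_iff''.1 hg h).2 hh.1, fun t ht => ?_⟩
    have h1 := fix_conj (inv_mem hg) ht
    rw [CfsgLib.Core.conj_smul_conj_smul, inv_mul_cancel, CfsgLib.Core.conj_one_smul] at h1
    have h2 := hh.2 _ h1
    have e : t = conjOp g (conjOp g⁻¹ t) := by rw [conjOp_conjOp, mul_inv_cancel, conjOp_id]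
    rw [e, ← stab_conj hg, CfsgLib.Core.mem_conj_smul_iff]
    exact h2
  refine le_antisymm (key hg) ?_
  have h := key (S := MulAut.conj g • S) (inv_mem hg)
  rw [CfsgLib.Core.conj_smul_conj_smul, inv_mul_cancel, CfsgLib.Core.conj_one_smul] at h
  have h' := pointwise_smul_le_pointwise_smul_iff (a := MulAut.conj g).2 h
  rwa [CfsgLib.Core.conj_smul_conj_smul, mul_inv_cancel, CfsgLib.Core.conj_one_smul] at h'

/-- The systems of `S'` and `S` are opposite. -/
def OppSys (G : Subgroup GLV) (d : ℕ) (S S' : Subgroup GLV) : Prop :=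
  ∀ t ∈ Fix G d S, ∀ t' ∈ Fix G d S', Linked G d t t' → ¬ IsNilpotent (t' * t)

variable [FiniteDimensional (ZMod p) V] (hG : Geo G d)
include hG

theorem Geo.linked_conj {g : GLV} (hg : g ∈ normalizer (G : Set GLV)) {a b : EV} (h : Linked G d a b) :
    Linked G d (conjOp g a) (conjOp g b) := by
  induction h with
  | refl => exact .refl
  | @tail b c _ hbc ih =>
    refine ih.tail ⟨root_conj_normalizer hg hbc.1, root_conj_normalizer hg hbc.2.1, fun e => hbc.2.2 ?_⟩
    rw [← conjOp_mul] at e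
    have := conjOp_nilpotent g⁻¹ e
    rwa [conjOp_conjOp, inv_mul_cancel, conjOp_id] at this

theorem Geo.not_nil_conj {a b : EV} (g : GLV) (h : ¬ IsNilpotent (b * a)) :
    ¬ IsNilpotent (conjOp g b * conjOp g a) := fun e => h (by
  rw [← conjOp_mul] at e
  have := conjOp_nilpotent g⁻¹ e
  rwa [conjOp_conjOp, inv_mul_cancel, conjOp_id] at this)

theorem Geo.commute_fix {w : EV} {z : GLV} (hw : w * w = 0) (h : expU w * z = z * expU w) : conjOp z w = w := by
  refine conjOp_eq_self.2 ?_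
  have := congrArg (fun x : GLV => (x : EV)) h
  simp only [Units.val_mul, expU_val hw, add_mul, mul_add, one_mul, mul_one, add_right_inj] at this
  exact this.symm

theorem Geo.maxP_uGrp_le [Finite GLV] {S : Subgroup GLV} (hS : MaxP G S) (ht : t ∈ Fix G d S) :
    uGrp G ht.1.sq ≤ S := by
  have h : IsPGroup p ↥(uGrp G ht.1.sq ⊔ S) :=
    (uGrp_isPGroup hG.hp5).to_sup_of_normal_left' hS.isP (ht.2.trans stab_le_normalizer_uGrp)
  have := hS.max _ (sup_le (uGrp_le _) hS.le) h le_sup_right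
  exact le_sup_left.trans this.le

theorem Geo.fix_unique [Finite GLV] {S : Subgroup GLV} (hS : MaxP G S) {t' : EV} (ht : t ∈ Fix G d S)
    (ht' : t' ∈ Fix G d S) (hl : Linked G d t t') : Same t t' :=
  hG.same_of_fix ht.1 ht'.1 hl ((hG.maxP_uGrp_le hS ht).trans ht'.2)

variable (hc : ∀ g ∈ G, ∀ s, Root G d s → Linked G d s (conjOp g s))
include hc

theorem Geo.exists_fix [Finite GLV] {S : Subgroup GLV} (hS : MaxP G S) (hs : Root G d s) :
    ∃ t ∈ Fix G d S, Linked G d s t := by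
  obtain ⟨S0, ⟨hS0s, hS0U, hS0p⟩, hmax⟩ := wellFounded_gt.has_min
    {T : Subgroup GLV | T ≤ stab G s ∧ uGrp G hs.sq ≤ T ∧ IsPGroup p T}
    ⟨uGrp G hs.sq, uGrp_le_stab, le_rfl, uGrp_isPGroup hG.hp5⟩
  have hM : MaxP G S0 := by
    refine ⟨hS0s.trans stab_le, hS0p, fun T hT hTp hle => ?_⟩
    by_contra hne
    have := hTp.isNilpotent
    have hlt : S0.subgroupOf T < ⊤ := by
      rw [lt_top_iff_ne_top, Ne, subgroupOf_eq_top]
      exact fun h => hne (le_antisymm h hle)
    have hgrow := Group.normalizerCondition_of_isNilpotent _ hlt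
    rw [← subgroupOf_normalizer_eq hle] at hgrow
    obtain ⟨⟨g, hgT⟩, hg, hgS⟩ := SetLike.exists_of_lt hgrow
    rw [mem_subgroupOf] at hg hgS
    have hgG : g ∈ G := hT hgT
    have hfix : uGrp G hs.sq ≤ stab G (conjOp g s) := by
      intro z hz
      rw [← stab_conj (le_normalizer hgG), CfsgLib.Core.mem_conj_smul_iff]
      exact hS0s ((mem_normalizer_iff''.1 hg z).1 (hS0U hz))
    have hsame := hG.same_of_fix hs (hs.conj hgG) (hc g hgG s hs) hfix
    refine hmax _ ⟨sup_le hS0s (zpowers_le.2 ⟨hgG, hsame⟩), hS0U.trans le_sup_left,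
      hTp.to_le (sup_le hle (zpowers_le.2 hgT))⟩ (lt_of_le_of_ne le_sup_left fun e => hgS ?_)
    rw [e]; exact mem_sup_right (mem_zpowers g)
  obtain ⟨h, hh, rfl⟩ := hM.exists_conj hS
  exact ⟨conjOp h s, fix_conj (le_normalizer hh) ⟨hs, hS0s⟩, hc h hh s hs⟩

theorem Geo.exists_oppSys [Finite GLV] [Finite EV] {S : Subgroup GLV} (hS : MaxP G S) :
    ∃ S', MaxP G S' ∧ OppSys G d S S' := by
  suffices key : ∀ Φ : Set EV, Φ.Finite → Φ ⊆ Fix G d S →
      ∃ h ∈ G, (∀ t ∈ Φ, ¬ IsNilpotent (conjOp h t * t)) ∧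
        ∀ w, Root G d w → (∀ t ∈ Φ, ¬ Linked G d t w) → conjOp h w = w by
    obtain ⟨h, hh, hΦ, -⟩ := key _ (Set.toFinite _) subset_rfl
    refine ⟨MulAut.conj h • S, hS.conj (le_normalizer hh), fun t ht t' ht' hl => ?_⟩
    obtain ⟨t0, ht0, rfl⟩ : ∃ t0, t0 ∈ Fix G d S ∧ conjOp h t0 = t' := by
      refine ⟨conjOp h⁻¹ t', ?_, by rw [conjOp_conjOp, mul_inv_cancel, conjOp_id]⟩
      have := fix_conj (inv_mem (le_normalizer hh)) ht'
      rwa [CfsgLib.Core.conj_smul_conj_smul, inv_mul_cancel, CfsgLib.Core.conj_one_smul] at this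
    have hsame := hG.fix_unique hS ht ht0 (hl.trans (hc h hh t0 ht0.1).symm)
    exact fun e => hΦ t0 ht0 (hG.nil_of_same ht.1 (ht0.1.conj hh) ht0.1 (ht0.1.conj hh) hsame (.refl _) e)
  intro Φ hΦ
  induction Φ, hΦ using Set.Finite.induction_on with
  | empty => exact fun _ => ⟨1, G.one_mem, fun t ht => absurd ht (Set.notMem_empty t), fun w _ _ => conjOp_id w⟩
  | @insert t Φ _ _ ih =>
    intro hsub
    rw [Set.insert_subset_iff] at hsub
    obtain ⟨h, hh, h1, h2⟩ := ih hsub.2
    by_cases hex : ∃ t' ∈ Φ, Linked G d t' t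
    · obtain ⟨t', ht', hl⟩ := hex
      refine ⟨h, hh, fun u hu => ?_, fun w hw hall => h2 w hw fun u hu => hall u (Set.mem_insert_of_mem _ hu)⟩
      rcases Set.mem_insert_iff.1 hu with rfl | hu
      · have hsame := hG.fix_unique hS (hsub.2 ht') hsub.1 hl
        exact fun e => h1 t' ht' (hG.nil_of_same hsub.1.1 (hsub.1.1.conj hh) (hsub.2 ht').1
          ((hsub.2 ht').1.conj hh) hsame.symm (hsame.symm.conj h) e)
      · exact h1 u hu
    · push Not at hex
      obtain ⟨q, hq⟩ := hG.opp t hsub.1.1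
      have hp := hG.pair hq
      have hnG : hp.I ∈ G := hp.rho_mem hG.hp5 _
      have htq : Linked G d t q := .single ⟨hq.left, hq.right, hq.nonnil hG.minRank⟩
      have hnfix : ∀ w, Root G d w → ¬ Linked G d t w → conjOp hp.I w = w := by
        intro w hw hnl
        have c1 : Commute w t := ((hG.comm_of_not_linked hsub.1.1 hw hnl).2).symm
        have c2 : Commute w q := ((hG.comm_of_not_linked hq.right hw fun e => hnl (htq.trans e)).2).symm
        refine conjOp_eq_self.2 (Commute.eq ?_)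
        rw [weyl_val, ff]
        exact ((((Commute.one_right w).sub_right (c1.mul_right c2)).sub_right (c2.mul_right c1)).add_right
          c1 |>.sub_right c2).symm
      refine ⟨hp.I * h, G.mul_mem hnG hh, fun u hu => ?_, fun w hw hall => ?_⟩
      · rcases Set.mem_insert_iff.1 hu with rfl | hu
        · rw [← conjOp_conjOp, h2 u hsub.1.1 hex, (weyl_conj hp).1, neg_mul]
          exact fun e => hq.nonnil hG.minRank (isNilpotent_neg_iff.1 e)
        · have hnl : ¬ Linked G d t (conjOp h u) := fun e =>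
            hex u hu (Linked.symm (e.trans (hc h hh u (hsub.2 hu).1).symm))
          rw [← conjOp_conjOp, hnfix _ ((hsub.2 hu).1.conj hh) hnl]
          exact h1 u hu
      · rw [← conjOp_conjOp, h2 w hw fun u hu => hall u (Set.mem_insert_of_mem _ hu),
          hnfix w hw (hall t (Set.mem_insert _ _))]

theorem Geo.exists_move_sys [Finite GLV] [Finite EV] {S S' S'' : Subgroup GLV} (hS : MaxP G S)
    (hS' : MaxP G S') (hS'' : MaxP G S'') (ho' : OppSys G d S S') (ho'' : OppSys G d S S'') :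
    ∃ k ∈ ⨆ t : Fix G d S, uGrp G t.2.1.sq, MulAut.conj k • sysStab G d S' = sysStab G d S'' := by
  set R := ⨆ t : Fix G d S, uGrp G t.2.1.sq
  suffices key : ∀ Φ : Set EV, Φ.Finite → Φ ⊆ Fix G d S →
      ∃ k ∈ R ⊓ G, (∀ t ∈ Φ, ∀ y ∈ Fix G d S', ∀ y' ∈ Fix G d S'', Linked G d t y → Linked G d t y' →
          Same y' (conjOp k y)) ∧
        ∀ w, Root G d w → (∀ t ∈ Φ, ¬ Linked G d t w) → conjOp k w = w by
    obtain ⟨k, ⟨hkR, hkG⟩, hΦ, -⟩ := key _ (Set.toFinite _) subset_rfl
    refine ⟨k, hkR, ?_⟩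
    ext g
    rw [CfsgLib.Core.mem_conj_smul_iff, mem_sysStab, mem_sysStab, ← mem_normalizer_iff''.1 (le_normalizer hkG) g]
    refine and_congr_right fun _ => ⟨fun h y' hy' => ?_, fun h y hy => ?_⟩
    · obtain ⟨t, ht, hl⟩ := hG.exists_fix hc hS hy'.1
      obtain ⟨y, hy, hly⟩ := hG.exists_fix hc hS' ht.1
      rw [stab_eq_of_same (hΦ t ht y hy y' hy' hly hl.symm).symm, ← stab_conj (le_normalizer hkG),
        CfsgLib.Core.mem_conj_smul_iff]
      exact h y hy
    · obtain ⟨t, ht, hl⟩ := hG.exists_fix hc hS hy.1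
      obtain ⟨y', hy', hly⟩ := hG.exists_fix hc hS'' ht.1
      have := h y' hy'
      rwa [stab_eq_of_same (hΦ t ht y hy y' hy' hl.symm hly).symm, ← stab_conj (le_normalizer hkG),
        CfsgLib.Core.mem_conj_smul_iff] at this
  intro Φ hΦ
  induction Φ, hΦ using Set.Finite.induction_on with
  | empty => exact fun _ => ⟨1, one_mem _, fun t ht => absurd ht (Set.notMem_empty t), fun w _ _ => conjOp_id w⟩
  | @insert t Φ _ _ ih =>
    intro hsub
    rw [Set.insert_subset_iff] at hsub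
    obtain ⟨k, hk, h1, h2⟩ := ih hsub.2
    by_cases hex : ∃ t' ∈ Φ, Linked G d t' t
    · obtain ⟨t', ht', hl⟩ := hex
      refine ⟨k, hk, fun u hu y hy y' hy' hly hly' => ?_,
        fun w hw hall => h2 w hw fun u hu => hall u (Set.mem_insert_of_mem _ hu)⟩
      rcases Set.mem_insert_iff.1 hu with rfl | hu
      · exact h1 t' ht' y hy y' hy' (hl.trans hly) (hl.trans hly')
      · exact h1 u hu y hy y' hy' hly hly'
    · push Not at hex
      obtain ⟨y0, hy0, hl0⟩ := hG.exists_fix hc hS' hsub.1.1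
      obtain ⟨y1, hy1, hl1⟩ := hG.exists_fix hc hS'' hsub.1.1
      obtain ⟨q1, ho1, hs1, -⟩ := hG.exists_exact hsub.1.1 hy0.1 (ho' t hsub.1 y0 hy0 hl0)
      obtain ⟨q2, ho2, hs2, -⟩ := hG.exists_exact hsub.1.1 hy1.1 (ho'' t hsub.1 y1 hy1 hl1)
      obtain ⟨z, hz, hzq⟩ := exists_move hG.hp5 (hG.pair ho1) (hG.pair ho2)
      have hzR : z ∈ R ⊓ G := ⟨mem_iSup_of_mem (⟨t, hsub.1⟩ : Fix G d S) hz, hz.1⟩
      have hzfix : ∀ w, Root G d w → ¬ Linked G d t w → conjOp z w = w := fun w hw hnl =>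
        hG.commute_fix hw.sq (hG.comm_uGrp_of_not_linked ho1 hw hnl hz)
      refine ⟨z * k, mul_mem hzR hk, fun u hu y hy y' hy' hly hly' => ?_, fun w hw hall => ?_⟩
      · rcases Set.mem_insert_iff.1 hu with rfl | hu
        · have hky : conjOp k y = y := h2 y hy.1 fun v hv e => hex v hv (e.trans hly.symm)
          rw [← conjOp_conjOp, hky]
          have e0 := hG.fix_unique hS' hy0 hy (hl0.symm.trans hly)
          have e1 := hG.fix_unique hS'' hy1 hy' (hl1.symm.trans hly')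
          have e2 := (hs1.symm.trans e0).conj z
          rw [hzq] at e2
          exact ((hs2.symm.trans e1).symm).trans e2
        · have e := h1 u hu y hy y' hy' hly hly'
          have hnl : ¬ Linked G d t (conjOp k y) := fun e' =>
            hex u hu ((hly.trans (hc k hk.2 y hy.1)).trans e'.symm)
          rw [← conjOp_conjOp, hzfix _ (hy.1.conj hk.2) hnl]
          exact e
      · rw [← conjOp_conjOp, h2 w hw fun u hu => hall u (Set.mem_insert_of_mem _ hu),
          hzfix w hw (hall t (Set.mem_insert _ _))]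

/-- An opposite system fixed by a coprime group of operators. -/
theorem Geo.exists_invariant_oppSys [Finite GLV] [Finite EV] {A : Subgroup GLV}
    (hAn : A ≤ normalizer (G : Set GLV)) (hcop : (Nat.card A).Coprime (Nat.card G))
    {S : Subgroup GLV} (hS : MaxP G S) (hAS : A ≤ normalizer (S : Set GLV)) :
    ∃ S1, MaxP G S1 ∧ A ≤ normalizer (S1 : Set GLV) ∧ OppSys G d S S1 := by
  obtain ⟨S', hS', ho'⟩ := hG.exists_oppSys hc hS
  set R := ⨆ t : Fix G d S, uGrp G t.2.1.sq
  have hRS : R ≤ S := iSup_le fun t => hG.maxP_uGrp_le hS t.2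
  have hfixA : ∀ a ∈ A, ∀ t, t ∈ Fix G d S → conjOp a t ∈ Fix G d S := fun a ha t ht => by
    have := fix_conj (hAn ha) ht
    rwa [CfsgLib.Core.mem_normalizer_iff_conj_smul_eq.1 (hAS ha)] at this
  have hRA : A ≤ normalizer (R : Set GLV) := by
    rw [Subgroup.le_normalizer_iff]
    intro a ha g hg
    suffices h : R ≤ R.comap (MulAut.conj a).toMonoidHom from h hg
    refine iSup_le fun t z hz => ?_
    show a * z * a⁻¹ ∈ R
    refine mem_iSup_of_mem (⟨_, hfixA a ha t t.2⟩ : Fix G d S) ?_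
    refine ⟨(mem_normalizer_iff.1 (hAn ha) z).1 hz.1, ?_⟩
    rw [op_conj_val]
    obtain ⟨a1, a2, a3⟩ := hz.2
    refine ⟨by rw [← conjOp_mul, a1, conjOp_zero], by rw [← conjOp_mul, a2, conjOp_zero], fun m hm => ?_⟩
    rw [range_conjOp, conjOp, Module.End.mul_apply, Module.End.mul_apply]
    refine Submodule.mem_map_of_mem (a3 _ ?_)
    have : ((a⁻¹ : GLV) : EV) (conjOp a (t : EV) m) = ((a⁻¹ : GLV) : EV) 0 := congrArg ((a⁻¹ : GLV) : EV) hm
    rwa [conjOp, Module.End.mul_apply, Module.End.mul_apply, inv_apply_apply, map_zero] at this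
  obtain ⟨k0, hk0, hA0⟩ := CfsgLib.Core.exists_invariant_conj (P := sysStab G d S') hRA
    (hcop.coprime_dvd_right (card_dvd_of_le (hRS.trans hS.le))) (solvable_or (hcop.coprime_dvd_right
      (card_dvd_of_le (hRS.trans hS.le)))) (fun a ha => by
      have hoa : OppSys G d S (MulAut.conj a • S') := by
        intro t ht t' ht' hl
        have h1 := hfixA a⁻¹ (A.inv_mem ha) t ht
        have h2 := fix_conj (inv_mem (hAn ha)) ht'
        rw [CfsgLib.Core.conj_smul_conj_smul, inv_mul_cancel, CfsgLib.Core.conj_one_smul] at h2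
        have h3 := hG.not_nil_conj a (ho' _ h1 _ h2 (hG.linked_conj (inv_mem (hAn ha)) hl))
        rwa [conjOp_conjOp, conjOp_conjOp, mul_inv_cancel, conjOp_id, conjOp_id] at h3
      obtain ⟨k, hk, e⟩ := hG.exists_move_sys hc hS hS' (hS'.conj (hAn ha)) ho' hoa
      exact ⟨k, hk, by rw [e, sysStab_conj (hAn ha)]⟩)
  have hk0G : k0 ∈ normalizer (G : Set GLV) := le_normalizer (hS.le (hRS hk0))
  have hS'' : MaxP G (MulAut.conj k0 • S') := hS'.conj hk0G
  rw [sysStab_conj hk0G] at hA0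
  set S'' := MulAut.conj k0 • S'
  have ho2 : OppSys G d S S'' := by
    intro t ht t' ht' hl
    have h0 : k0 ∈ normalizer (S : Set GLV) := le_normalizer (hRS hk0)
    have h1 := fix_conj (inv_mem hk0G) ht
    rw [CfsgLib.Core.mem_normalizer_iff_conj_smul_eq.1 (inv_mem h0)] at h1
    have h2 := fix_conj (inv_mem hk0G) ht'
    rw [CfsgLib.Core.conj_smul_conj_smul, inv_mul_cancel, CfsgLib.Core.conj_one_smul] at h2
    have h3 := hG.not_nil_conj k0 (ho' _ h1 _ h2 (hG.linked_conj (inv_mem hk0G) hl))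
    rwa [conjOp_conjOp, conjOp_conjOp, mul_inv_cancel, conjOp_id, conjOp_id] at h3
  set B := sysStab G d S'' with hB
  have hBG : B ≤ G := inf_le_left
  obtain ⟨P, hP⟩ := CfsgLib.Core.exists_invariant_sylow hA0 (hcop.coprime_dvd_right (card_dvd_of_le hBG))
    (solvable_or (hcop.coprime_dvd_right (card_dvd_of_le hBG))) p
  set S1 := (P : Subgroup B).map B.subtype
  have hS1B : MaxP B S1 := MaxP.of_sylow P
  have hS''B : MaxP B S'' := ⟨le_sysStab hS''.le, hS''.isP, fun T hT hTp hle => hS''.max T (hT.trans hBG) hTp hle⟩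
  obtain ⟨b, hb, e⟩ := hS''B.exists_conj hS1B
  refine ⟨S1, e ▸ hS''.conj (le_normalizer (hBG hb)), hP, fun t ht t' ht' hl => ?_⟩
  obtain ⟨u, hu, hlu⟩ := hG.exists_fix hc hS'' ht'.1
  have hu1 : u ∈ Fix G d S1 := ⟨hu.1, (map_subtype_le _).trans (sysStab_le_stab hu)⟩
  have hsame := hG.fix_unique (e ▸ hS''.conj (le_normalizer (hBG hb))) ht' hu1 hlu
  exact fun h => ho2 t ht u hu (hl.trans hlu)
    (hG.nil_of_same ht.1 ht'.1 ht.1 hu.1 (.refl _) hsame h)

end CfsgLib.Flavell.KL
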