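import Cfsg.Agent.Lib.Flavell.KL.Grading

/-!
Owner: helper26 (S1930). A `p`-group of linear maps over the field with `p` elements lowers every invariant
subspace; products of `g - 1` are nilpotent.
-/

set_option autoImplicit false

namespace CfsgLib.Flavell.KL

open Cfsg CfsgLib.QuadPair CfsgLib.PLocal.ZJCoprime Subgroup

variable {p : ℕ} [Fact p.Prime] {V : Type} [AddCommGroup V] [Module (ZMod p) V]

local notation "GLV" => LinearMap.GeneralLinearGroup (ZMod p) V
local notation "EV" => Module.End (ZMod p) V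

/-- The span of the images of the `g - 1`. -/
noncomputable def aug (K : Subgroup GLV) (Y : Submodule (ZMod p) V) : Submodule (ZMod p) V :=
  ⨆ g ∈ K, Y.map (op g)

theorem mem_aug {K : Subgroup GLV} {Y : Submodule (ZMod p) V} {g : GLV} (hg : g ∈ K) {v : V} (hv : v ∈ Y) :
    op g v ∈ aug K Y :=
  Submodule.mem_iSup_of_mem g (Submodule.mem_iSup_of_mem hg ⟨v, hv, rfl⟩)

theorem aug_le {K : Subgroup GLV} {Y : Submodule (ZMod p) V} (hY : ∀ g ∈ K, ∀ v ∈ Y, (g : EV) v ∈ Y) :
    aug K Y ≤ Y := by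
  refine iSup₂_le fun g hg => ?_
  rintro _ ⟨v, hv, rfl⟩
  rw [LinearMap.sub_apply, Module.End.one_apply]
  exact Y.sub_mem (hY g hg v hv) hv

theorem op_conj_val (n g : GLV) : op (n * g * n⁻¹) = conjOp n (op g) := by
  rw [op, Units.val_mul, Units.val_mul, conjOp, op, mul_sub, sub_mul, mul_one, Units.mul_inv]

theorem aug_stable {K N : Subgroup GLV} {Y : Submodule (ZMod p) V}
    (hN : N ≤ normalizer (K : Set GLV)) (hY : ∀ g ∈ N, ∀ v ∈ Y, (g : EV) v ∈ Y) :
    ∀ n ∈ N, ∀ v ∈ aug K Y, (n : EV) v ∈ aug K Y := by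
  intro n hn
  suffices h : aug K Y ≤ (aug K Y).comap (n : EV) from fun v hv => h hv
  refine iSup₂_le fun g hg => ?_
  rintro _ ⟨v, hv, rfl⟩
  rw [Submodule.mem_comap]
  have := mem_aug ((mem_normalizer_iff.1 (hN hn) g).1 hg) (hY n hn v hv)
  rwa [op_conj_val, conjOp, Module.End.mul_apply, Module.End.mul_apply, inv_apply_apply] at this

theorem aug_lt [FiniteDimensional (ZMod p) V] {K : Subgroup GLV} (hK : IsPGroup p K)
    {Y : Submodule (ZMod p) V} (hY0 : Y ≠ ⊥) (hY : ∀ g ∈ K, ∀ v ∈ Y, (g : EV) v ∈ Y) : aug K Y < Y := by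
  refine lt_of_le_of_ne (aug_le hY) fun e => ?_
  haveI : Finite V := Module.finite_of_finite (ZMod p)
  haveI : Finite (Module.Dual (ZMod p) Y) := Module.finite_of_finite (ZMod p)
  haveI : Finite (Y →ₗ[ZMod p] Y) := Module.finite_of_finite (ZMod p)
  have hinv : ∀ g : K, ∀ v ∈ Y, (((g : GLV)⁻¹ : GLV) : EV) v ∈ Y := fun g => hY _ (K.inv_mem g.2)
  letI : MulAction K (Module.Dual (ZMod p) Y) :=
    { smul := fun g φ => φ.comp (LinearMap.restrict _ (hinv g))
      one_smul := fun φ => LinearMap.ext fun v => congrArg φ (Subtype.ext (by simp))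
      mul_smul := fun g h φ => LinearMap.ext fun v => congrArg φ (Subtype.ext (by
        show _ = (((h : GLV)⁻¹ : GLV) : EV) ((((g : GLV)⁻¹ : GLV) : EV) v)
        rw [← Module.End.mul_apply, ← Units.val_mul, ← _root_.mul_inv_rev]
        rfl)) }
  have hdvd : p ∣ Nat.card (Module.Dual (ZMod p) Y) := by
    rw [Module.natCard_eq_pow_finrank (K := ZMod p), Subspace.dual_finrank_eq, Nat.card_zmod]
    exact dvd_pow_self p (fun h => hY0 (Submodule.finrank_eq_zero.1 h))
  obtain ⟨φ, hφ, hφ0⟩ := hK.exists_fixed_point_of_prime_dvd_card_of_fixed_point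
    (Module.Dual (ZMod p) Y) hdvd (a := 0) (fun g => LinearMap.ext fun v => rfl)
  apply hφ0
  have hker : Y ≤ (LinearMap.ker φ).map Y.subtype := by
    conv_lhs => rw [← e]
    refine iSup₂_le fun g hg => ?_
    rintro _ ⟨v, hv, rfl⟩
    refine ⟨⟨(g : EV) v, hY g hg v hv⟩ - ⟨v, hv⟩, ?_, by simp⟩
    have h := LinearMap.congr_fun (hφ ⟨g, hg⟩) ⟨(g : EV) v, hY g hg v hv⟩
    rw [SetLike.mem_coe, LinearMap.mem_ker, map_sub, sub_eq_zero, ← h]
    show φ _ = φ _
    refine congrArg φ (Subtype.ext ?_)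
    exact inv_apply_apply g v
  refine (LinearMap.ext fun v => ?_).symm
  obtain ⟨w, hw, hwv⟩ := hker v.2
  rw [← Subtype.ext hwv, LinearMap.mem_ker.1 hw]; rfl

theorem isNilpotent_op_mul [FiniteDimensional (ZMod p) V] {K : Subgroup GLV} (hK : IsPGroup p K) {a b : GLV}
    (ha : a ∈ K) (hb : b ∈ K) : IsNilpotent (op a * op b) := by
  suffices h : ∀ n, ∀ Y : Submodule (ZMod p) V, Module.finrank (ZMod p) Y < n →
      (∀ g ∈ K, ∀ v ∈ Y, (g : EV) v ∈ Y) → ∀ v ∈ Y, ((op a * op b) ^ n) v = 0 by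
    exact ⟨_, LinearMap.ext fun v => h _ ⊤ (Nat.lt_succ_self _) (fun _ _ _ _ => trivial) v trivial⟩
  intro n
  induction n with
  | zero => intro Y h; omega
  | succ n ih =>
    intro Y hn hY v hv
    by_cases hY0 : Y = ⊥
    · rw [hY0, Submodule.mem_bot] at hv; rw [hv, map_zero]
    have hlt := aug_lt hK hY0 hY
    rw [pow_succ, Module.End.mul_apply]
    refine ih (aug K Y) ?_ (aug_stable le_normalizer hY) _ ?_
    · have := Submodule.finrank_lt_finrank_of_lt hlt; omega
    · rw [Module.End.mul_apply]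
      exact mem_aug ha (hlt.le (mem_aug hb hv))

/-- A `p`-element normalising a `p`-group generates a `p`-group with it. -/
theorem isPGroup_sup_zpowers [Finite GLV] {K : Subgroup GLV} (hK : IsPGroup p K) {w : GLV}
    (hw : w ∈ normalizer (K : Set GLV)) (hwp : w ^ p = 1) : IsPGroup p ↥(K ⊔ zpowers w) := by
  refine hK.to_sup_of_normal_left' (fun ⟨g, hg⟩ => ⟨1, Subtype.ext ?_⟩) (zpowers_le.2 hw)
  obtain ⟨i, rfl⟩ := mem_zpowers_iff.1 hg
  rw [pow_one, SubgroupClass.coe_pow, OneMemClass.coe_one, ← zpow_natCast, ← zpow_mul, mul_comm, zpow_mul,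
    zpow_natCast, hwp, one_zpow]

end CfsgLib.Flavell.KL
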